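import Groth.Agent.S3709
import Groth.Agent.Lib.Helper28.EffDescQ.SectionQ

/-!
# Effective descent of étale schemes along universally submersive morphisms (helper28): core lemmas

* `core'`: morphisms to an étale `S`-scheme descend along (base changes of) a universally submersive morphism
  (`IsPullback` form of `Groth.Agent.S3709.core`).
* `isIso_of_two_quot_et`: two étale cartesian quotients of the same scheme are isomorphic.
* `glue_quot_abs`: gluing of local cartesian quotients, with the transition data as hypotheses.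
-/

set_option autoImplicit false
set_option maxHeartbeats 1600000
set_option backward.isDefEq.respectTransparency false
set_option backward.isDefEq.respectTransparency.types false
universe u
open CategoryTheory CategoryTheory.Limits AlgebraicGeometry

namespace Groth.Agent.Lib.Helper28.EffDescE

open Groth.Agent.Lib.Helper11

theorem surjective_of_bc {X S P U : Scheme.{u}} {p : X ⟶ S} (hp : SGA1.UnivSubmersive p)
    {π : P ⟶ U} {ρ : P ⟶ X} {s : U ⟶ S} (hP : IsPullback π ρ s p) : Surjective π :=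
  ⟨(hp ρ s π hP).surjective⟩

/-- morphisms to an étale scheme descend along a universally submersive morphism -/
theorem core' {S S' X Y P : Scheme.{u}} (g : S' ⟶ S) (hg : SGA1.UnivSubmersive g)
    (p : X ⟶ S) (q : Y ⟶ S) [Etale q] (π : P ⟶ X) (ρ : P ⟶ S') (hP : IsPullback π ρ p g)
    (tau : P ⟶ Y) (htau : tau ≫ q = π ≫ p)
    (hcoc : ∀ ⦃T : Scheme.{u}⦄ (a b : T ⟶ P), a ≫ π = b ≫ π → a ≫ tau = b ≫ tau) :
    ∃ v : X ⟶ Y, v ≫ q = p ∧ π ≫ v = tau := by
  obtain ⟨v, ⟨hv1, hv2⟩, -⟩ := Groth.Agent.S3709.core g hg p q (hP.isoPullback.inv ≫ tau)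
    (by rw [Category.assoc, htau, ← Category.assoc, hP.isoPullback_inv_fst])
    (by
      rw [← Category.assoc, ← Category.assoc]
      apply hcoc
      rw [Category.assoc, Category.assoc, hP.isoPullback_inv_fst, pullback.condition])
  refine ⟨v, hv1, ?_⟩
  rw [← hP.isoPullback_hom_fst, Category.assoc, ← hv2, Iso.hom_inv_id_assoc]

/-- two étale cartesian quotients of the same scheme, compared by a morphism, are isomorphic -/
theorem isIso_of_two_quot_et {V X S U₁ U₂ : Scheme.{u}} {α : V ⟶ X} {p : X ⟶ S}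
    (hp : SGA1.UnivSubmersive p)
    {q₁ : V ⟶ U₁} {s₁ : U₁ ⟶ S} {q₂ : V ⟶ U₂} {s₂ : U₂ ⟶ S} [Etale s₁] [Etale s₂]
    (h₁ : IsPullback α q₁ p s₁) (h₂ : IsPullback α q₂ p s₂) (k : U₁ ⟶ U₂) (hk : q₁ ≫ k = q₂)
    (hs : k ≫ s₂ = s₁) : IsIso k := by
  haveI hq₁ : Surjective q₁ := surjective_of_bc hp h₁.flip
  haveI hq₂ : Surjective q₂ := surjective_of_bc hp h₂.flip
  have h₁' : IsPullback (𝟙 V ≫ α) q₁ p (k ≫ s₂) := by
    rw [Category.id_comp, hs]; exact h₁
  have sq : IsPullback (𝟙 V) q₁ q₂ k :=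
    IsPullback.of_right h₁' (by rw [Category.id_comp, hk]) h₂
  obtain ⟨k', hk'1, hk'2⟩ := core' p hp s₂ s₁ q₂ α h₂.flip q₁ (h₁.w.symm.trans h₂.w) (by
    intro T a b hab
    have e : a ≫ q₂ = (b ≫ q₁) ≫ k := by rw [Category.assoc, hk, hab]
    have h1 := sq.lift_fst a (b ≫ q₁) e
    have h2 := sq.lift_snd a (b ≫ q₁) e
    rw [Category.comp_id] at h1
    calc a ≫ q₁ = sq.lift a (b ≫ q₁) e ≫ q₁ := by rw [h1]
      _ = b ≫ q₁ := h2)
  refine ⟨⟨k', ?_, ?_⟩⟩
  · refine UD1.hom_ext_of_surjective s₁ q₁ _ _ ?_ ?_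
    · rw [Category.assoc, hk'1, hs, Category.id_comp]
    · rw [← Category.assoc, hk, hk'2, Category.comp_id]
  · refine UD1.hom_ext_of_surjective s₂ q₂ _ _ ?_ ?_
    · rw [Category.assoc, hs, hk'1, Category.id_comp]
    · rw [← Category.assoc, hk'2, hk, Category.comp_id]

section Glue

variable {V X S : Scheme.{u}}

section Data

variable (a : V ⟶ X) (p : X ⟶ S)
  (𝒰 : S.OpenCover) [Category 𝒰.I₀] [𝒰.LocallyDirected]
  (U : 𝒰.I₀ → Scheme.{u}) (u : ∀ i, U i ⟶ 𝒰.X i)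
  (τ : ∀ {i j : 𝒰.I₀}, (i ⟶ j) → (U i ⟶ U j))
  (hnat : ∀ {i j : 𝒰.I₀} (hij : i ⟶ j), τ hij ≫ u j = u i ≫ 𝒰.trans hij)
  (hid : ∀ i : 𝒰.I₀, τ (𝟙 i) = 𝟙 (U i))
  (hcomp : ∀ {i j k : 𝒰.I₀} (hij : i ⟶ j) (hjk : j ⟶ k), τ (hij ≫ hjk) = τ hij ≫ τ hjk)
  (hequi : ∀ {i j : 𝒰.I₀} (hij : i ⟶ j), IsPullback (τ hij) (u i) (u j) (𝒰.trans hij))

/-- the relative gluing datum of the local quotients -/
noncomputable def absGlueData : 𝒰.RelativeGluingData where
  functor :=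
    { obj := U
      map := fun {i j} hij => τ hij
      map_id := fun i => hid i
      map_comp := fun {i j k} hij hjk => hcomp hij hjk }
  natTrans := { app := u, naturality := fun {i j} hij => hnat hij }
  equifibered := fun {i j} hij => hequi hij

end Data

/-- gluing of local cartesian quotients over a locally directed open cover, with the transition data as
hypotheses -/
theorem glue_quot_abs (a : V ⟶ X) (p : X ⟶ S)
    (𝒰 : S.OpenCover) [Category 𝒰.I₀] [𝒰.LocallyDirected] [Small.{u} 𝒰.I₀] [Quiver.IsThin 𝒰.I₀]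
    (U : 𝒰.I₀ → Scheme.{u}) (u : ∀ i, U i ⟶ 𝒰.X i)
    (q : ∀ i, pullback (a ≫ p) (𝒰.f i) ⟶ U i)
    (hpb : ∀ i, IsPullback (pullback.fst (a ≫ p) (𝒰.f i) ≫ a) (q i) p (u i ≫ 𝒰.f i))
    (τ : ∀ {i j : 𝒰.I₀}, (i ⟶ j) → (U i ⟶ U j))
    (hτ : ∀ {i j : 𝒰.I₀} (hij : i ⟶ j), q i ≫ τ hij = EffDesc.tmap 𝒰 (a ≫ p) hij ≫ q j)
    (hnat : ∀ {i j : 𝒰.I₀} (hij : i ⟶ j), τ hij ≫ u j = u i ≫ 𝒰.trans hij)
    (hid : ∀ i : 𝒰.I₀, τ (𝟙 i) = 𝟙 (U i))
    (hcomp : ∀ {i j k : 𝒰.I₀} (hij : i ⟶ j) (hjk : j ⟶ k), τ (hij ≫ hjk) = τ hij ≫ τ hjk)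
    (hequi : ∀ {i j : 𝒰.I₀} (hij : i ⟶ j), IsPullback (τ hij) (u i) (u j) (𝒰.trans hij)) :
    ∃ (U' : Scheme.{u}) (u' : U' ⟶ S) (q' : V ⟶ U'), IsPullback a q' p u' ∧
      (∀ i, ∃ ι : U i ⟶ U', pullback.fst (a ≫ p) (𝒰.f i) ≫ q' = q i ≫ ι) ∧
      (∀ (P : MorphismProperty Scheme.{u}) [IsZariskiLocalAtSource P],
        (∀ i, P (u i ≫ 𝒰.f i)) → P u') := by
  have hqu : ∀ i, q i ≫ u i = pullback.snd (a ≫ p) (𝒰.f i) := by
    intro i
    rw [← cancel_mono (𝒰.f i), Category.assoc, ← (hpb i).w, Category.assoc, pullback.condition]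
  obtain ⟨d, hd⟩ : ∃ d : 𝒰.RelativeGluingData, d = absGlueData 𝒰 U u τ hnat hid hcomp hequi := ⟨_, rfl⟩
  have hcompat : ∀ {i j : 𝒰.I₀} (hij : i ⟶ j),
      Scheme.Cover.trans (𝒰.pullback₁ (a ≫ p)) hij ≫ q j ≫
        colimit.ι (absGlueData 𝒰 U u τ hnat hid hcomp hequi).functor j =
      q i ≫ colimit.ι (absGlueData 𝒰 U u τ hnat hid hcomp hequi).functor i := by
    intro i j hij
    rw [EffDesc.tmap_eq, ← Category.assoc, ← hτ hij, Category.assoc]
    congr 1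
    exact colimit.w (absGlueData 𝒰 U u τ hnat hid hcomp hequi).functor hij
  obtain ⟨q', hq'⟩ : ∃ q' : V ⟶ (absGlueData 𝒰 U u τ hnat hid hcomp hequi).glued, ∀ i,
      pullback.fst (a ≫ p) (𝒰.f i) ≫ q' =
        q i ≫ colimit.ι (absGlueData 𝒰 U u τ hnat hid hcomp hequi).functor i :=
    ⟨Scheme.OpenCover.glueMorphismsOfLocallyDirected (𝒰.pullback₁ (a ≫ p))
      (fun i => q i ≫ colimit.ι (absGlueData 𝒰 U u τ hnat hid hcomp hequi).functor i)
      (fun {i j} hij => hcompat hij),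
      fun i => Scheme.OpenCover.map_glueMorphismsOfLocallyDirected (𝒰.pullback₁ (a ≫ p)) _ _ i⟩
  have hw : a ≫ p = q' ≫ (absGlueData 𝒰 U u τ hnat hid hcomp hequi).toBase := by
    apply Scheme.Cover.hom_ext (𝒰.pullback₁ (a ≫ p))
    intro i
    change pullback.fst (a ≫ p) (𝒰.f i) ≫ a ≫ p =
      pullback.fst (a ≫ p) (𝒰.f i) ≫ q' ≫ (absGlueData 𝒰 U u τ hnat hid hcomp hequi).toBase
    rw [← Category.assoc _ q', hq' i, Category.assoc,
      Scheme.Cover.RelativeGluingData.ι_toBase, pullback.condition]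
    change _ = q i ≫ u i ≫ 𝒰.f i
    rw [← Category.assoc, hqu]
  refine ⟨(absGlueData 𝒰 U u τ hnat hid hcomp hequi).glued,
    (absGlueData 𝒰 U u τ hnat hid hcomp hequi).toBase, q', ?_,
    fun i => ⟨colimit.ι (absGlueData 𝒰 U u τ hnat hid hcomp hequi).functor i, hq' i⟩, ?_⟩
  · exact EffDesc.isPullback_of_local a q' p (absGlueData 𝒰 U u τ hnat hid hcomp hequi).toBase hw 𝒰
      (absGlueData 𝒰 U u τ hnat hid hcomp hequi).cover (fun i => i) (fun i => u i)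
      (fun i => ((absGlueData 𝒰 U u τ hnat hid hcomp hequi).isPullback_natTrans_ι_toBase i).flip) q
      (fun i => (hq' i).symm) hpb
  · intro P _ hP
    refine IsZariskiLocalAtSource.of_openCover (P := P)
      (absGlueData 𝒰 U u τ hnat hid hcomp hequi).cover (fun i => ?_)
    have e : (absGlueData 𝒰 U u τ hnat hid hcomp hequi).cover.f i ≫
        (absGlueData 𝒰 U u τ hnat hid hcomp hequi).toBase = u i ≫ 𝒰.f i :=
      Scheme.Cover.RelativeGluingData.ι_toBase (absGlueData 𝒰 U u τ hnat hid hcomp hequi) i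
    rw [e]
    exact hP i

end Glue

end Groth.Agent.Lib.Helper28.EffDescE
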