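import Groth.Agent.Lib.Helper28.EffDescE.Core

/-!
# Effective descent of étale schemes along universally submersive morphisms (helper28): local quotients

* `LocalQuotE D j`: an étale cartesian invariant quotient of the part of `D` over `j`.
* `local_desc_et`: locally invariant morphisms to étale schemes factor through a local quotient.
* `restrict_quot`: restriction of local quotients.
* `transfer_iso`: a quotient of the base change of `D` along `j` is a local quotient over `j`.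
* `exists_quot_of_local_basis_et`: étale local quotients over the members of a basis glue.
-/

set_option autoImplicit false
set_option maxHeartbeats 1600000
set_option backward.isDefEq.respectTransparency false
set_option backward.isDefEq.respectTransparency.types false
universe u
open CategoryTheory CategoryTheory.Limits AlgebraicGeometry

namespace Groth.Agent.Lib.Helper28.EffDescE

open Desc Groth.Agent.Lib.Helper11 Groth.Agent.Lib.Helper28.EffDescQ

variable {X S : Scheme.{u}} {p : X ⟶ S} (D : SchDD p)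

/-- an étale cartesian invariant quotient of the part of `D` over `j` -/
def LocalQuotE {S₁ : Scheme.{u}} (j : S₁ ⟶ S) : Prop :=
  ∃ (U₁ : Scheme.{u}) (u₁ : U₁ ⟶ S₁) (q₁ : pullback (D.obj.hom ≫ p) j ⟶ U₁),
    IsPullback (pullback.fst (D.obj.hom ≫ p) j ≫ D.obj.hom) q₁ p (u₁ ≫ j) ∧
      EffDesc.IsLocInv D j q₁ ∧ Etale u₁

/-- points with the same image in a local quotient have the same image under a locally invariant morphism -/
theorem locInv_compat {S₁ : Scheme.{u}} (j : S₁ ⟶ S) [Mono j]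
    {U₁ : Scheme.{u}} (u₁ : U₁ ⟶ S₁) (q₁ : pullback (D.obj.hom ≫ p) j ⟶ U₁)
    (hpb : IsPullback (pullback.fst (D.obj.hom ≫ p) j ≫ D.obj.hom) q₁ p (u₁ ≫ j))
    (hinv : EffDesc.IsLocInv D j q₁) {Z : Scheme.{u}} (f : pullback (D.obj.hom ≫ p) j ⟶ Z)
    (hf : EffDesc.IsLocInv D j f) {T : Scheme.{u}} (g₁ g₂ : T ⟶ pullback (D.obj.hom ≫ p) j)
    (hg : g₁ ≫ q₁ = g₂ ≫ q₁) : g₁ ≫ f = g₂ ≫ f := by
  have hqu : q₁ ≫ u₁ = pullback.snd (D.obj.hom ≫ p) j := by
    rw [← cancel_mono j, Category.assoc, ← hpb.w, Category.assoc, pullback.condition]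
  have h : (g₁ ≫ pullback.fst (D.obj.hom ≫ p) j ≫ D.obj.hom) ≫ p =
      (g₂ ≫ pullback.fst (D.obj.hom ≫ p) j ≫ D.obj.hom) ≫ p := by
    have e := hpb.w
    calc (g₁ ≫ pullback.fst (D.obj.hom ≫ p) j ≫ D.obj.hom) ≫ p
        = g₁ ≫ (pullback.fst (D.obj.hom ≫ p) j ≫ D.obj.hom) ≫ p := by simp only [Category.assoc]
      _ = (g₁ ≫ q₁) ≫ u₁ ≫ j := by rw [e, Category.assoc]
      _ = (g₂ ≫ q₁) ≫ u₁ ≫ j := by rw [hg]
      _ = g₂ ≫ (pullback.fst (D.obj.hom ≫ p) j ≫ D.obj.hom) ≫ p := by rw [e, Category.assoc]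
      _ = _ := by simp only [Category.assoc]
  have hsnd : g₁ ≫ pullback.snd (D.obj.hom ≫ p) j = g₂ ≫ pullback.snd (D.obj.hom ≫ p) j := by
    rw [← hqu, ← Category.assoc, hg, Category.assoc]
  obtain ⟨v, hv⟩ : ∃ v : Lifts D.obj (g₁ ≫ pullback.fst (D.obj.hom ≫ p) j ≫ D.obj.hom),
      v.1 = g₁ ≫ pullback.fst (D.obj.hom ≫ p) j := ⟨⟨_, Category.assoc _ _ _⟩, rfl⟩
  have hc : (D.φ _ _ h v).1 ≫ D.obj.hom ≫ p = (g₁ ≫ pullback.snd (D.obj.hom ≫ p) j) ≫ j := by
    rw [← Category.assoc, EffDesc.phi_hom, ← h, Category.assoc, Category.assoc, Category.assoc,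
      pullback.condition]
  have e1 : pullback.lift (D.φ _ _ h v).1 (g₁ ≫ pullback.snd (D.obj.hom ≫ p) j) hc ≫ q₁ = g₁ ≫ q₁ :=
    hinv _ _ h v g₁ _ hv.symm (pullback.lift_fst _ _ _) (pullback.lift_snd _ _ _).symm
  have e2 : pullback.lift (D.φ _ _ h v).1 (g₁ ≫ pullback.snd (D.obj.hom ≫ p) j) hc = g₂ := by
    apply hpb.hom_ext
    · rw [← Category.assoc, pullback.lift_fst, EffDesc.phi_hom]
    · rw [e1, hg]
  have e3 : pullback.lift (D.φ _ _ h v).1 (g₁ ≫ pullback.snd (D.obj.hom ≫ p) j) hc ≫ f = g₁ ≫ f :=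
    hf _ _ h v g₁ _ hv.symm (pullback.lift_fst _ _ _) (pullback.lift_snd _ _ _).symm
  rw [e2] at e3
  exact e3.symm

/-- locally invariant morphisms to étale schemes factor through a local quotient -/
theorem local_desc_et (hp : SGA1.UnivSubmersive p) {S₁ : Scheme.{u}} (j : S₁ ⟶ S) [Mono j]
    {U₁ : Scheme.{u}} (u₁ : U₁ ⟶ S₁) (q₁ : pullback (D.obj.hom ≫ p) j ⟶ U₁)
    (hpb : IsPullback (pullback.fst (D.obj.hom ≫ p) j ≫ D.obj.hom) q₁ p (u₁ ≫ j))
    (hinv : EffDesc.IsLocInv D j q₁) {Z : Scheme.{u}} (z : Z ⟶ S) [Etale z]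
    (f : pullback (D.obj.hom ≫ p) j ⟶ Z) (hfz : f ≫ z = q₁ ≫ u₁ ≫ j)
    (hf : EffDesc.IsLocInv D j f) : ∃ g : U₁ ⟶ Z, g ≫ z = u₁ ≫ j ∧ q₁ ≫ g = f :=
  core' p hp (u₁ ≫ j) z q₁ (pullback.fst (D.obj.hom ≫ p) j ≫ D.obj.hom) hpb.flip f hfz
    (fun _ a b hab => locInv_compat D j u₁ q₁ hpb hinv f hf a b hab)

/-- restriction of local quotients -/
theorem restrict_quot {S₁ S₂ : Scheme.{u}} (j : S₁ ⟶ S) [Mono j] (k : S₂ ⟶ S₁) (j' : S₂ ⟶ S)
    (hj' : k ≫ j = j') {U₁ : Scheme.{u}} (u₁ : U₁ ⟶ S₁) (q₁ : pullback (D.obj.hom ≫ p) j ⟶ U₁)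
    (hpb : IsPullback (pullback.fst (D.obj.hom ≫ p) j ≫ D.obj.hom) q₁ p (u₁ ≫ j))
    (hinv : EffDesc.IsLocInv D j q₁) :
    ∃ q₂ : pullback (D.obj.hom ≫ p) j' ⟶ pullback u₁ k,
      IsPullback (pullback.fst (D.obj.hom ≫ p) j' ≫ D.obj.hom) q₂ p (pullback.snd u₁ k ≫ j') ∧
      EffDesc.IsLocInv D j' q₂ := by
  subst hj'
  have hqu : q₁ ≫ u₁ = pullback.snd (D.obj.hom ≫ p) j := by
    rw [← cancel_mono j, Category.assoc, ← hpb.w, Category.assoc, pullback.condition]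
  obtain ⟨θ, hθ1, hθ2⟩ : ∃ θ : pullback (D.obj.hom ≫ p) (k ≫ j) ⟶ pullback (D.obj.hom ≫ p) j,
      θ ≫ pullback.fst (D.obj.hom ≫ p) j = pullback.fst (D.obj.hom ≫ p) (k ≫ j) ∧
      θ ≫ pullback.snd (D.obj.hom ≫ p) j = pullback.snd (D.obj.hom ≫ p) (k ≫ j) ≫ k :=
    ⟨pullback.lift (pullback.fst (D.obj.hom ≫ p) (k ≫ j)) (pullback.snd (D.obj.hom ≫ p) (k ≫ j) ≫ k)
      (by rw [Category.assoc]; exact pullback.condition), pullback.lift_fst _ _ _,
      pullback.lift_snd _ _ _⟩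
  have big : IsPullback (θ ≫ pullback.fst (D.obj.hom ≫ p) j) (pullback.snd (D.obj.hom ≫ p) (k ≫ j))
      (D.obj.hom ≫ p) (k ≫ j) := by
    rw [hθ1]; exact IsPullback.of_hasPullback _ _
  have left : IsPullback θ (pullback.snd (D.obj.hom ≫ p) (k ≫ j)) (pullback.snd (D.obj.hom ≫ p) j) k :=
    IsPullback.of_right big hθ2 (IsPullback.of_hasPullback _ _)
  have hc : (θ ≫ q₁) ≫ u₁ = pullback.snd (D.obj.hom ≫ p) (k ≫ j) ≫ k := by
    rw [Category.assoc, hqu, hθ2]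
  have top : IsPullback θ (pullback.lift (θ ≫ q₁) (pullback.snd (D.obj.hom ≫ p) (k ≫ j)) hc) q₁
      (pullback.fst u₁ k) := by
    refine IsPullback.of_bot ?_ (pullback.lift_fst _ _ _).symm (IsPullback.of_hasPullback u₁ k)
    rw [pullback.lift_snd, hqu]
    exact left
  refine ⟨pullback.lift (θ ≫ q₁) (pullback.snd (D.obj.hom ≫ p) (k ≫ j)) hc, ?_, ?_⟩
  · have := top.paste_horiz hpb
    rw [← Category.assoc, hθ1] at this
    have e : pullback.fst u₁ k ≫ u₁ ≫ j = pullback.snd u₁ k ≫ k ≫ j := by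
      rw [← Category.assoc, pullback.condition, Category.assoc]
    rw [e] at this
    exact this
  · intro T x₀ x₁ h v v₁ w₁ hv hw hs
    apply pullback.hom_ext
    · rw [Category.assoc, Category.assoc, pullback.lift_fst, ← Category.assoc, ← Category.assoc]
      refine hinv x₀ x₁ h v (v₁ ≫ θ) (w₁ ≫ θ) ?_ ?_ ?_
      · rw [Category.assoc, hθ1]; exact hv
      · rw [Category.assoc, hθ1]; exact hw
      · rw [Category.assoc, Category.assoc, hθ2, ← Category.assoc, hs, Category.assoc]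
    · rw [Category.assoc, Category.assoc, pullback.lift_snd]
      exact hs.symm

/-- a quotient of the base change of `D` along `j` is a local quotient over `j` -/
theorem transfer_iso {S₁ : Scheme.{u}} (j : S₁ ⟶ S)
    (w : pullback.snd p j ≫ j = pullback.fst p j ≫ p)
    {U' : Scheme.{u}} (u' : U' ⟶ S₁) (q' : (EffDesc.pullDD (pullback.fst p j) j w D).obj.left ⟶ U')
    (hpb' : IsPullback (EffDesc.pullDD (pullback.fst p j) j w D).obj.hom q' (pullback.snd p j) u')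
    (hinv' : EffDesc.IsInv (EffDesc.pullDD (pullback.fst p j) j w D) q') :
    ∃ q₁ : pullback (D.obj.hom ≫ p) j ⟶ U',
      IsPullback (pullback.fst (D.obj.hom ≫ p) j ≫ D.obj.hom) q₁ p (u' ≫ j) ∧
      EffDesc.IsLocInv D j q₁ := by
  have hpb'' : IsPullback (pullback.snd D.obj.hom (pullback.fst p j)) q' (pullback.snd p j) u' := hpb'
  obtain ⟨b₁, hb1, hb2, hR⟩ : ∃ b₁ : pullback (D.obj.hom ≫ p) j ⟶ pullback p j,
      b₁ ≫ pullback.fst p j = pullback.fst (D.obj.hom ≫ p) j ≫ D.obj.hom ∧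
      b₁ ≫ pullback.snd p j = pullback.snd (D.obj.hom ≫ p) j ∧
      IsPullback (pullback.fst (D.obj.hom ≫ p) j) b₁ D.obj.hom (pullback.fst p j) :=
    ⟨_, pullback.lift_fst _ _ _, pullback.lift_snd _ _ _, EffDesc.isPullback_lift_of_comp D.obj.hom p j⟩
  obtain ⟨ε, hε1, hε2⟩ : ∃ ε : pullback (D.obj.hom ≫ p) j ≅ pullback D.obj.hom (pullback.fst p j),
      ε.hom ≫ pullback.fst D.obj.hom (pullback.fst p j) = pullback.fst (D.obj.hom ≫ p) j ∧
      ε.hom ≫ pullback.snd D.obj.hom (pullback.fst p j) = b₁ :=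
    ⟨hR.isoPullback, hR.isoPullback_hom_fst, hR.isoPullback_hom_snd⟩
  refine ⟨ε.hom ≫ q', ?_, ?_⟩
  · have P1 : IsPullback q' (pullback.snd D.obj.hom (pullback.fst p j) ≫ pullback.fst p j) (u' ≫ j) p :=
      hpb''.flip.paste_vert (IsPullback.of_hasPullback p j).flip
    have L : IsPullback ε.hom (pullback.fst (D.obj.hom ≫ p) j ≫ D.obj.hom)
        (pullback.snd D.obj.hom (pullback.fst p j) ≫ pullback.fst p j) (𝟙 X) :=
      IsPullback.of_horiz_isIso ⟨by rw [← Category.assoc, hε2, hb1, Category.comp_id]⟩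
    have := (L.paste_horiz P1).flip
    rw [Category.id_comp] at this
    exact this
  · intro T x₀ x₁ h v v₁ w₁ hv₁ hw₁ hs
    have hv2 : v.1 ≫ D.obj.hom = x₀ := v.2
    obtain ⟨s, hs0⟩ : ∃ s : T ⟶ S₁, s = v₁ ≫ pullback.snd (D.obj.hom ≫ p) j := ⟨_, rfl⟩
    have hy0 : x₀ ≫ p = s ≫ j := by
      rw [hs0, Category.assoc, ← pullback.condition, ← Category.assoc, hv₁, ← Category.assoc, hv2]
    have hy1 : x₁ ≫ p = s ≫ j := h.symm.trans hy0
    obtain ⟨y₀, hy01, hy02⟩ : ∃ y₀ : T ⟶ pullback p j, y₀ ≫ pullback.fst p j = x₀ ∧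
        y₀ ≫ pullback.snd p j = s := ⟨pullback.lift x₀ s hy0, pullback.lift_fst _ _ _, pullback.lift_snd _ _ _⟩
    obtain ⟨y₁, hy11, hy12⟩ : ∃ y₁ : T ⟶ pullback p j, y₁ ≫ pullback.fst p j = x₁ ∧
        y₁ ≫ pullback.snd p j = s := ⟨pullback.lift x₁ s hy1, pullback.lift_fst _ _ _, pullback.lift_snd _ _ _⟩
    have h' : y₀ ≫ pullback.snd p j = y₁ ≫ pullback.snd p j := hy02.trans hy12.symm
    have hvb : v₁ ≫ b₁ = y₀ := by
      apply pullback.hom_ext
      · rw [Category.assoc, hb1, ← Category.assoc, hv₁, hv2, hy01]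
      · rw [Category.assoc, hb2, hy02, hs0]
    have hwb : w₁ ≫ b₁ = y₁ := by
      apply pullback.hom_ext
      · rw [Category.assoc, hb1, ← Category.assoc, hw₁, EffDesc.phi_hom, hy11]
      · rw [Category.assoc, hb2, hy12, hs0, hs]
    obtain ⟨v', hv'⟩ : ∃ v' : Lifts (EffDesc.pullDD (pullback.fst p j) j w D).obj y₀,
        v'.1 = v₁ ≫ ε.hom := by
      refine ⟨⟨v₁ ≫ ε.hom, ?_⟩, rfl⟩
      change (v₁ ≫ ε.hom) ≫ pullback.snd D.obj.hom (pullback.fst p j) = y₀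
      rw [Category.assoc, hε2, hvb]
    have key := hinv' y₀ y₁ h' v'
    have hL : ((EffDesc.pullDD (pullback.fst p j) j w D).φ y₀ y₁ h' v').1 = w₁ ≫ ε.hom := by
      apply pullback.hom_ext
      · rw [EffDesc.pullDD_phi_fst, Category.assoc, hε1, hw₁]
        refine EffDesc.phi_congr D hy01 hy11 _ h _ v ?_
        change v'.1 ≫ pullback.fst D.obj.hom (pullback.fst p j) = v.1
        rw [hv', Category.assoc, hε1, hv₁]
      · rw [Category.assoc, hε2, hwb]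
        exact EffDesc.phi_hom (EffDesc.pullDD (pullback.fst p j) j w D) y₀ y₁ h' v'
    rw [hL, hv'] at key
    rw [← Category.assoc, key, Category.assoc]

end Groth.Agent.Lib.Helper28.EffDescE
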