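import Groth.Agent.Lib.Helper28.EffDescE.Spread5
import Groth.Agent.Lib.Helper28.EffDescE.LocalE

/-!
# fpqc descent of étale local quotients (helper28), part 1: local quotients over arbitrary (non-mono) bases
-/

set_option autoImplicit false
set_option maxHeartbeats 1600000
set_option backward.isDefEq.respectTransparency false
set_option backward.isDefEq.respectTransparency.types false
universe u
open CategoryTheory CategoryTheory.Limits AlgebraicGeometry

namespace Groth.Agent.Lib.Helper28.EffDescE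

open Desc Groth.Agent.Lib.Helper11

section FQ1

theorem univSubmersive_of_isPullback {S S' T T' : Scheme.{u}} {g : S' ⟶ S} (hg : SGA1.UnivSubmersive g)
    {a : T' ⟶ S'} {g' : T' ⟶ T} {r : T ⟶ S} (sq : IsPullback a g' g r) : SGA1.UnivSubmersive g' := by
  haveI : (SGA1.UnivSubmersive : MorphismProperty Scheme.{u}).IsStableUnderBaseChange := by
    unfold SGA1.UnivSubmersive; infer_instance
  exact MorphismProperty.of_isPullback (P := SGA1.UnivSubmersive) sq hg

theorem univSubmersive_snd {S S' T : Scheme.{u}} {g : S' ⟶ S} (hg : SGA1.UnivSubmersive g) (r : T ⟶ S) :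
    SGA1.UnivSubmersive (pullback.snd g r) :=
  univSubmersive_of_isPullback hg (IsPullback.of_hasPullback g r)

variable {S S' : Scheme.{u}} {g : S' ⟶ S} (D : SchDD g)

/-- an étale, separated, quasi-compact cartesian invariant quotient of the part of `D` over `j`
(for arbitrary `j`, the compatibility with the projection to the base is part of the data) -/
def LocalQuotS {S₁ : Scheme.{u}} (j : S₁ ⟶ S) : Prop :=
  ∃ (U₁ : Scheme.{u}) (u₁ : U₁ ⟶ S₁) (q₁ : pullback (D.obj.hom ≫ g) j ⟶ U₁),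
    q₁ ≫ u₁ = pullback.snd (D.obj.hom ≫ g) j ∧
    IsPullback (pullback.fst (D.obj.hom ≫ g) j ≫ D.obj.hom) q₁ g (u₁ ≫ j) ∧
    EffDesc.IsLocInv D j q₁ ∧ Etale u₁ ∧ IsSeparated u₁ ∧ QuasiCompact u₁

variable {S₁ U₁ : Scheme.{u}} (j : S₁ ⟶ S) (u₁ : U₁ ⟶ S₁)
  (q₁ : pullback (D.obj.hom ≫ g) j ⟶ U₁) (hqu : q₁ ≫ u₁ = pullback.snd (D.obj.hom ≫ g) j)
  (hpb : IsPullback (pullback.fst (D.obj.hom ≫ g) j ≫ D.obj.hom) q₁ g (u₁ ≫ j))
  (hinv : EffDesc.IsLocInv D j q₁)

theorem base_eq_of_snd_eq {T : Scheme.{u}} (w w' : T ⟶ pullback (D.obj.hom ≫ g) j)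
    (hw : w ≫ pullback.snd (D.obj.hom ≫ g) j = w' ≫ pullback.snd (D.obj.hom ≫ g) j) :
    (w ≫ pullback.fst (D.obj.hom ≫ g) j ≫ D.obj.hom) ≫ g =
      (w' ≫ pullback.fst (D.obj.hom ≫ g) j ≫ D.obj.hom) ≫ g := by
  simp only [Category.assoc]
  rw [pullback.condition]
  exact (Category.assoc _ _ _).symm.trans ((congrArg (· ≫ j) hw).trans (Category.assoc _ _ _))

include hpb hinv in
/-- four-point transfer: if `y, y'` have the same image in the quotient, and `z, z'` have the same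
`E`-components as `y, y'`, then `z, z'` have the same image under any locally invariant morphism -/
theorem fibre_transfer {Z : Scheme.{u}} (f : pullback (D.obj.hom ≫ g) j ⟶ Z)
    (hf : EffDesc.IsLocInv D j f) {T : Scheme.{u}} (y y' z z' : T ⟶ pullback (D.obj.hom ≫ g) j)
    (hy : y ≫ pullback.snd (D.obj.hom ≫ g) j = y' ≫ pullback.snd (D.obj.hom ≫ g) j)
    (hz : z ≫ pullback.snd (D.obj.hom ≫ g) j = z' ≫ pullback.snd (D.obj.hom ≫ g) j)
    (h1 : y ≫ pullback.fst (D.obj.hom ≫ g) j = z ≫ pullback.fst (D.obj.hom ≫ g) j)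
    (h2 : y' ≫ pullback.fst (D.obj.hom ≫ g) j = z' ≫ pullback.fst (D.obj.hom ≫ g) j)
    (hq : y ≫ q₁ = y' ≫ q₁) : z' ≫ f = z ≫ f := by
  have h := base_eq_of_snd_eq D j y y' hy
  obtain ⟨v, hv⟩ : ∃ v : Lifts D.obj (y ≫ pullback.fst (D.obj.hom ≫ g) j ≫ D.obj.hom),
      v.1 = y ≫ pullback.fst (D.obj.hom ≫ g) j := ⟨⟨_, Category.assoc _ _ _⟩, rfl⟩
  have hc : (D.φ _ _ h v).1 ≫ D.obj.hom ≫ g = (y ≫ pullback.snd (D.obj.hom ≫ g) j) ≫ j := by
    rw [← Category.assoc, EffDesc.phi_hom, ← h, Category.assoc, Category.assoc, Category.assoc,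
      pullback.condition]
  have e1 : pullback.lift (D.φ _ _ h v).1 (y ≫ pullback.snd (D.obj.hom ≫ g) j) hc ≫ q₁ = y ≫ q₁ :=
    hinv _ _ h v y _ hv.symm (pullback.lift_fst _ _ _) (pullback.lift_snd _ _ _).symm
  have e2 : pullback.lift (D.φ _ _ h v).1 (y ≫ pullback.snd (D.obj.hom ≫ g) j) hc = y' := by
    apply hpb.hom_ext
    · rw [← Category.assoc, pullback.lift_fst, EffDesc.phi_hom]
    · rw [e1, hq]
  have e3 : (D.φ _ _ h v).1 = y' ≫ pullback.fst (D.obj.hom ≫ g) j := by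
    have := congrArg (· ≫ pullback.fst (D.obj.hom ≫ g) j) e2
    simpa only [pullback.lift_fst] using this
  have h' := base_eq_of_snd_eq D j z z' hz
  obtain ⟨v', hv'⟩ : ∃ v' : Lifts D.obj (z ≫ pullback.fst (D.obj.hom ≫ g) j ≫ D.obj.hom),
      v'.1 = z ≫ pullback.fst (D.obj.hom ≫ g) j := ⟨⟨_, Category.assoc _ _ _⟩, rfl⟩
  have e₀ : z ≫ pullback.fst (D.obj.hom ≫ g) j ≫ D.obj.hom =
      y ≫ pullback.fst (D.obj.hom ≫ g) j ≫ D.obj.hom := by
    rw [← Category.assoc, ← h1, Category.assoc]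
  have e₁ : z' ≫ pullback.fst (D.obj.hom ≫ g) j ≫ D.obj.hom =
      y' ≫ pullback.fst (D.obj.hom ≫ g) j ≫ D.obj.hom := by
    rw [← Category.assoc, ← h2, Category.assoc]
  have e4 : (D.φ _ _ h' v').1 = z' ≫ pullback.fst (D.obj.hom ≫ g) j := by
    rw [← h2, ← e3]
    exact EffDesc.phi_congr D e₀ e₁ h' h v' v (by rw [hv', hv, h1])
  exact hf _ _ h' v' z z' hv'.symm e4.symm hz

include hqu hpb in
/-- restriction of a cartesian quotient is cartesian -/
theorem restrK_pb {T : Scheme.{u}} (k : T ⟶ S₁) (j' : T ⟶ S) (hj' : k ≫ j = j') :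
    IsPullback (pullback.fst (D.obj.hom ≫ g) j' ≫ D.obj.hom) (restrK D j u₁ q₁ hqu k j' hj') g
      (pullback.snd u₁ k ≫ j') := by
  have top : IsPullback (thetaK D j k j' hj') (restrK D j u₁ q₁ hqu k j' hj') q₁
      (pullback.fst u₁ k) := by
    refine IsPullback.of_bot ?_ (restrK_fst D j u₁ q₁ hqu k j' hj').symm
      (IsPullback.of_hasPullback u₁ k)
    rw [restrK_snd, hqu]
    exact isPullback_thetaK D j k j' hj'
  have := top.paste_horiz hpb
  rw [← Category.assoc, thetaK_fst] at this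
  have e : pullback.fst u₁ k ≫ u₁ ≫ j = pullback.snd u₁ k ≫ j' := by
    rw [← Category.assoc, pullback.condition, Category.assoc, hj']
  rw [e] at this
  exact this

/-- the map `E ×_S S₁ ⟶ S' ×_S S₁` -/
noncomputable def rhoJ : pullback (D.obj.hom ≫ g) j ⟶ pullback g j :=
  pullback.lift (pullback.fst (D.obj.hom ≫ g) j ≫ D.obj.hom) (pullback.snd (D.obj.hom ≫ g) j)
    (by rw [Category.assoc]; exact pullback.condition)

theorem rhoJ_fst : rhoJ D j ≫ pullback.fst g j = pullback.fst (D.obj.hom ≫ g) j ≫ D.obj.hom :=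
  pullback.lift_fst _ _ _

theorem rhoJ_snd : rhoJ D j ≫ pullback.snd g j = pullback.snd (D.obj.hom ≫ g) j :=
  pullback.lift_snd _ _ _

include hqu hpb in
theorem isPullback_rhoJ : IsPullback q₁ (rhoJ D j) u₁ (pullback.snd g j) := by
  refine IsPullback.of_bot ?_ ?_ (IsPullback.of_hasPullback g j).flip
  · rw [rhoJ_fst]
    exact hpb.flip
  · rw [hqu, rhoJ_snd]

include hqu hpb hinv in
/-- comparison of a cartesian invariant quotient with a locally invariant morphism to an étale scheme over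
the same base -/
theorem quot_compare (hg : SGA1.UnivSubmersive g) {U₂ : Scheme.{u}} (u₂ : U₂ ⟶ S₁) [Etale u₂]
    (q₂ : pullback (D.obj.hom ≫ g) j ⟶ U₂) (hqu₂ : q₂ ≫ u₂ = pullback.snd (D.obj.hom ≫ g) j)
    (hinv₂ : EffDesc.IsLocInv D j q₂) : ∃ k : U₁ ⟶ U₂, k ≫ u₂ = u₁ ∧ q₁ ≫ k = q₂ := by
  have hgT : SGA1.UnivSubmersive (pullback.snd g j) := univSubmersive_snd hg j
  refine core' (pullback.snd g j) hgT u₁ u₂ q₁ (rhoJ D j) (isPullback_rhoJ D j u₁ q₁ hqu hpb) q₂
    (hqu₂.trans hqu.symm) ?_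
  intro T a b hab
  have hs : a ≫ pullback.snd (D.obj.hom ≫ g) j = b ≫ pullback.snd (D.obj.hom ≫ g) j := by
    rw [← hqu, ← Category.assoc, hab, Category.assoc]
  exact (fibre_transfer D j u₁ q₁ hpb hinv q₂ hinv₂ a b a b hs hs rfl rfl hab).symm

end FQ1

end Groth.Agent.Lib.Helper28.EffDescE
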