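import Groth.Agent.Lib.Helper28.EffDescE.FQ1
import Groth.Agent.Lib.Helper28.EffDesc.SheafDesc

/-!
# fpqc descent of étale local quotients (helper28), part 2: the induced descent datum on a local quotient
-/

set_option autoImplicit false
set_option maxHeartbeats 1600000
set_option backward.isDefEq.respectTransparency false
set_option backward.isDefEq.respectTransparency.types false
universe u
open CategoryTheory CategoryTheory.Limits AlgebraicGeometry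

namespace Groth.Agent.Lib.Helper28.EffDescE

open Desc Groth.Agent.Lib.Helper11

section FQ2

variable {S S' : Scheme.{u}} {g : S' ⟶ S} (D : SchDD g)
  {S₁ S₂ U₂ : Scheme.{u}} (j : S₁ ⟶ S) (c : S₂ ⟶ S₁) (u₂ : U₂ ⟶ S₂)
  (q₂ : pullback (D.obj.hom ≫ g) (c ≫ j) ⟶ U₂)

/-- the gluing relation on the points of a local quotient over `c ≫ j`, relative to `c` -/
def QRel ⦃T : Scheme.{u}⦄ (v w : T ⟶ U₂) : Prop :=
  (v ≫ u₂) ≫ c = (w ≫ u₂) ≫ c ∧
  ∀ ⦃T' : Scheme.{u}⦄ (t : T' ⟶ T) (z₀ z₁ : T' ⟶ pullback (D.obj.hom ≫ g) (c ≫ j)),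
    z₀ ≫ pullback.fst (D.obj.hom ≫ g) (c ≫ j) = z₁ ≫ pullback.fst (D.obj.hom ≫ g) (c ≫ j) →
    z₀ ≫ pullback.snd (D.obj.hom ≫ g) (c ≫ j) = t ≫ v ≫ u₂ →
    z₁ ≫ pullback.snd (D.obj.hom ≫ g) (c ≫ j) = t ≫ w ≫ u₂ →
    (z₀ ≫ q₂ = t ≫ v ↔ z₁ ≫ q₂ = t ≫ w)

variable {D j c u₂ q₂}

theorem QRel.refl {T : Scheme.{u}} (v : T ⟶ U₂) : QRel D j c u₂ q₂ v v := by
  refine ⟨rfl, fun T' t z₀ z₁ hf h0 h1 => ?_⟩
  have : z₀ = z₁ := pullback.hom_ext hf (h0.trans h1.symm)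
  rw [this]

theorem QRel.symm {T : Scheme.{u}} {v w : T ⟶ U₂} (h : QRel D j c u₂ q₂ v w) :
    QRel D j c u₂ q₂ w v :=
  ⟨h.1.symm, fun _ t z₁ z₀ hf h1 h0 => (h.2 t z₀ z₁ hf.symm h0 h1).symm⟩

theorem QRel.base {T T' : Scheme.{u}} {v w : T ⟶ U₂} (h : QRel D j c u₂ q₂ v w) (t : T' ⟶ T) :
    (t ≫ v ≫ u₂) ≫ c ≫ j = (t ≫ w ≫ u₂) ≫ c ≫ j := by
  have := congrArg (fun m => t ≫ m ≫ j) h.1
  simpa only [Category.assoc] using this

theorem QRel.trans {T : Scheme.{u}} {v w x : T ⟶ U₂} (h₁ : QRel D j c u₂ q₂ v w)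
    (h₂ : QRel D j c u₂ q₂ w x) : QRel D j c u₂ q₂ v x := by
  refine ⟨h₁.1.trans h₂.1, fun T' t z₀ z₂ hf h0 h2 => ?_⟩
  have hc : (z₀ ≫ pullback.fst (D.obj.hom ≫ g) (c ≫ j)) ≫ D.obj.hom ≫ g = (t ≫ w ≫ u₂) ≫ c ≫ j := by
    rw [Category.assoc, pullback.condition, ← Category.assoc, h0]
    exact h₁.base t
  have e1 := h₁.2 t z₀ (pullback.lift _ _ hc) (pullback.lift_fst _ _ _).symm h0 (pullback.lift_snd _ _ _)
  have e2 := h₂.2 t (pullback.lift _ _ hc) z₂ ((pullback.lift_fst _ _ _).trans hf)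
    (pullback.lift_snd _ _ _) h2
  exact e1.trans e2

theorem QRel.comp {T T'' : Scheme.{u}} (k : T'' ⟶ T) {v w : T ⟶ U₂} (h : QRel D j c u₂ q₂ v w) :
    QRel D j c u₂ q₂ (k ≫ v) (k ≫ w) := by
  refine ⟨?_, fun T' t z₀ z₁ hf h0 h1 => ?_⟩
  · have := congrArg (fun m => k ≫ m) h.1
    simpa only [Category.assoc] using this
  · have := h.2 (t ≫ k) z₀ z₁ hf (by rw [h0]; simp only [Category.assoc])
      (by rw [h1]; simp only [Category.assoc])
    simpa only [Category.assoc] using this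

variable (hg : SGA1.UnivSubmersive g)
  (hqu : q₂ ≫ u₂ = pullback.snd (D.obj.hom ≫ g) (c ≫ j))
  (hpb : IsPullback (pullback.fst (D.obj.hom ≫ g) (c ≫ j) ≫ D.obj.hom) q₂ g (u₂ ≫ c ≫ j))
  (hinv : EffDesc.IsLocInv D (c ≫ j) q₂)

include hg hqu hpb in
theorem QRel.unique [Etale u₂] {T : Scheme.{u}} {v w w' : T ⟶ U₂} (h : QRel D j c u₂ q₂ v w)
    (h' : QRel D j c u₂ q₂ v w') (he : w ≫ u₂ = w' ≫ u₂) : w = w' := by
  haveI : Surjective q₂ := surjective_of_bc hg hpb.flip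
  have h0 : pullback.snd v q₂ ≫ pullback.snd (D.obj.hom ≫ g) (c ≫ j) = pullback.fst v q₂ ≫ v ≫ u₂ := by
    rw [← hqu, ← Category.assoc, ← pullback.condition, Category.assoc]
  have hc : (pullback.snd v q₂ ≫ pullback.fst (D.obj.hom ≫ g) (c ≫ j)) ≫ D.obj.hom ≫ g =
      (pullback.fst v q₂ ≫ w ≫ u₂) ≫ c ≫ j := by
    rw [Category.assoc, pullback.condition, ← Category.assoc, h0]
    exact h.base _
  have e1 := (h.2 (pullback.fst v q₂) (pullback.snd v q₂) (pullback.lift _ _ hc)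
    (pullback.lift_fst _ _ _).symm h0 (pullback.lift_snd _ _ _)).mp pullback.condition.symm
  have e2 := (h'.2 (pullback.fst v q₂) (pullback.snd v q₂) (pullback.lift _ _ hc)
    (pullback.lift_fst _ _ _).symm h0 ((pullback.lift_snd _ _ _).trans (by rw [he]))).mp
      pullback.condition.symm
  exact UD1.hom_ext_of_surjective u₂ (pullback.fst v q₂) w w' he (e1.symm.trans e2)

/-- characterisation of the points of a pullback lying over a section -/
theorem section_iff {A B : Scheme.{u}} (a : A ⟶ B) {T T' : Scheme.{u}} (x : T ⟶ B) (v : T ⟶ A)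
    (hv : v ≫ a = x) (t : T' ⟶ T) (m : T' ⟶ pullback a x) (hm : m ≫ pullback.snd a x = t) :
    m ≫ pullback.fst a x = t ≫ v ↔
      m = t ≫ pullback.lift v (𝟙 T) (hv.trans (Category.id_comp _).symm) := by
  constructor
  · intro h
    apply pullback.hom_ext
    · rw [h, Category.assoc, pullback.lift_fst]
    · rw [hm, Category.assoc, pullback.lift_snd, Category.comp_id]
  · intro h
    rw [h, Category.assoc, pullback.lift_fst]

include hg hqu hpb hinv in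
theorem QRel.exists_rel [Etale u₂] {T : Scheme.{u}} (x₀ x₁ : T ⟶ S₂) (hx : x₀ ≫ c = x₁ ≫ c)
    (v : T ⟶ U₂) (hv : v ≫ u₂ = x₀) : ∃ w : T ⟶ U₂, w ≫ u₂ = x₁ ∧ QRel D j c u₂ q₂ v w := by
  obtain ⟨r, hx₀⟩ : ∃ r, x₀ ≫ c ≫ j = r := ⟨_, rfl⟩
  have hx₁ : x₁ ≫ c ≫ j = r := by rw [← hx₀, ← Category.assoc, ← hx, Category.assoc]
  -- the two restricted quotients
  have hpb₀ := restrK_pb D (c ≫ j) u₂ q₂ hqu hpb x₀ r hx₀
  have hpb₁ := restrK_pb D (c ≫ j) u₂ q₂ hqu hpb x₁ r hx₁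
  have hinv₀ := restrK_inv D (c ≫ j) u₂ q₂ hqu x₀ r hx₀ hinv
  have hinv₁ := restrK_inv D (c ≫ j) u₂ q₂ hqu x₁ r hx₁ hinv
  have hqu₀ := restrK_snd D (c ≫ j) u₂ q₂ hqu x₀ r hx₀
  have hqu₁ := restrK_snd D (c ≫ j) u₂ q₂ hqu x₁ r hx₁
  obtain ⟨k, hk1, hk2⟩ := quot_compare D r (pullback.snd u₂ x₀) _ hqu₀ hpb₀ hinv₀ hg
    (pullback.snd u₂ x₁) _ hqu₁ hinv₁
  obtain ⟨k', hk'1, hk'2⟩ := quot_compare D r (pullback.snd u₂ x₁) _ hqu₁ hpb₁ hinv₁ hg
    (pullback.snd u₂ x₀) _ hqu₀ hinv₀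
  haveI : Surjective (restrK D (c ≫ j) u₂ q₂ hqu x₀ r hx₀) := surjective_of_bc hg hpb₀.flip
  have hkk' : k ≫ k' = 𝟙 _ := by
    refine UD1.hom_ext_of_surjective (pullback.snd u₂ x₀)
      (restrK D (c ≫ j) u₂ q₂ hqu x₀ r hx₀) _ _ ?_ ?_
    · rw [Category.assoc, hk'1, hk1, Category.id_comp]
    · rw [← Category.assoc, hk2, hk'2, Category.comp_id]
  have hsec : v ≫ u₂ = 𝟙 T ≫ x₀ := hv.trans (Category.id_comp _).symm
  have hw : (pullback.lift v (𝟙 T) hsec ≫ k ≫ pullback.fst u₂ x₁) ≫ u₂ = x₁ := by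
    rw [Category.assoc, Category.assoc, pullback.condition, ← Category.assoc k, hk1,
      ← Category.assoc, pullback.lift_snd, Category.id_comp]
  have hsec' : (pullback.lift v (𝟙 T) hsec ≫ k ≫ pullback.fst u₂ x₁) ≫ u₂ = 𝟙 T ≫ x₁ :=
    hw.trans (Category.id_comp _).symm
  have hsk : pullback.lift v (𝟙 T) hsec ≫ k =
      pullback.lift (pullback.lift v (𝟙 T) hsec ≫ k ≫ pullback.fst u₂ x₁) (𝟙 T) hsec' := by
    apply pullback.hom_ext
    · rw [pullback.lift_fst, Category.assoc]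
    · rw [pullback.lift_snd, Category.assoc, hk1, pullback.lift_snd]
  refine ⟨pullback.lift v (𝟙 T) hsec ≫ k ≫ pullback.fst u₂ x₁, hw, ?_, ?_⟩
  · rw [hv, hw, hx]
  · intro T' t z₀ z₁ hf h0 h1
    have hζ : (z₀ ≫ pullback.fst (D.obj.hom ≫ g) (c ≫ j)) ≫ D.obj.hom ≫ g = t ≫ r := by
      rw [Category.assoc, pullback.condition, ← Category.assoc, h0, hv, Category.assoc, hx₀]
    have hθ₀ : pullback.lift _ _ hζ ≫ thetaK D (c ≫ j) x₀ r hx₀ = z₀ := by
      apply pullback.hom_ext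
      · rw [Category.assoc, thetaK_fst, pullback.lift_fst]
      · rw [Category.assoc, thetaK_snd, ← Category.assoc, pullback.lift_snd, h0, hv]
    have hθ₁ : pullback.lift _ _ hζ ≫ thetaK D (c ≫ j) x₁ r hx₁ = z₁ := by
      apply pullback.hom_ext
      · rw [Category.assoc, thetaK_fst, pullback.lift_fst, hf]
      · rw [Category.assoc, thetaK_snd, ← Category.assoc, pullback.lift_snd, h1, hw]
    have hA := section_iff u₂ x₀ v hv t
      (pullback.lift _ _ hζ ≫ restrK D (c ≫ j) u₂ q₂ hqu x₀ r hx₀)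
      (by rw [Category.assoc, restrK_snd, pullback.lift_snd])
    rw [Category.assoc, restrK_fst, ← Category.assoc, hθ₀] at hA
    have hB := section_iff u₂ x₁ (pullback.lift v (𝟙 T) hsec ≫ k ≫ pullback.fst u₂ x₁) hw t
      (pullback.lift _ _ hζ ≫ restrK D (c ≫ j) u₂ q₂ hqu x₁ r hx₁)
      (by rw [Category.assoc, restrK_snd, pullback.lift_snd])
    rw [Category.assoc, restrK_fst, ← Category.assoc, hθ₁, ← hsk] at hB
    rw [hA, hB]
    constructor
    · intro h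
      rw [← hk2, ← Category.assoc, h, Category.assoc]
    · intro h
      have := congrArg (· ≫ k') h
      simp only [Category.assoc] at this
      rw [← hk2, Category.assoc] at this
      rw [hkk', Category.comp_id, Category.comp_id] at this
      exact this

end FQ2

end Groth.Agent.Lib.Helper28.EffDescE
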