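import Groth.Agent.Lib.Helper28.EffDescE.FQ2
import Groth.Agent.Lib.Helper28.EffDesc.QAff
import Groth.Agent.Lib.Helper28.EffDescQ.GoodCov
import Groth.Agent.Lib.Helper11.UD5
import Groth.Agent.S0081
import Groth.Agent.S0079
import Mathlib.AlgebraicGeometry.ZariskisMainTheorem
import Mathlib.AlgebraicGeometry.QuasiAffine

/-!
# fpqc descent of étale local quotients (helper28), part 3: the descent theorem
-/

set_option autoImplicit false
set_option maxHeartbeats 1600000
set_option backward.isDefEq.respectTransparency false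
set_option backward.isDefEq.respectTransparency.types false
universe u
open CategoryTheory CategoryTheory.Limits AlgebraicGeometry

namespace Groth.Agent.Lib.Helper28.EffDescE

open Desc Groth.Agent.Lib.Helper11

/-- a separated, locally quasi-finite, quasi-compact morphism is quasi-affine (Zariski's main theorem) -/
theorem isQuasiAffine_of_sep_lqf {X Y : Scheme.{u}} (f : X ⟶ Y) [IsSeparated f] [LocallyQuasiFinite f]
    [LocallyOfFiniteType f] [QuasiCompact f] : Mor2.IsQuasiAffine f := by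
  refine ⟨inferInstance, fun V hV => ?_⟩
  haveI hVa : IsAffine (↑V : Scheme.{u}) := hV
  haveI h1 : IsSeparated (f ∣_ V) :=
    MorphismProperty.of_isPullback (isPullback_morphismRestrict f V).flip inferInstance
  haveI h2 : LocallyQuasiFinite (f ∣_ V) :=
    MorphismProperty.of_isPullback (isPullback_morphismRestrict f V).flip inferInstance
  haveI h3 : LocallyOfFiniteType (f ∣_ V) :=
    MorphismProperty.of_isPullback (isPullback_morphismRestrict f V).flip inferInstance
  haveI h7 : QuasiCompact (f ∣_ V) :=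
    MorphismProperty.of_isPullback (isPullback_morphismRestrict f V).flip inferInstance
  haveI : CompactSpace ↥(↑(f ⁻¹ᵁ V) : Scheme.{u}) := QuasiCompact.compactSpace_of_compactSpace (f ∣_ V)
  haveI h8 : IsOpenImmersion (f ∣_ V).toNormalization := inferInstance
  haveI h9 : IsAffine (f ∣_ V).normalization := isAffine_of_isAffineHom (f ∣_ V).fromNormalization
  exact Scheme.IsQuasiAffine.of_isImmersion (f ∣_ V).toNormalization

section FQ3

variable {S S' : Scheme.{u}} {g : S' ⟶ S} {D : SchDD g}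

/-- **fpqc descent of étale separated quasi-compact local quotients** -/
theorem localQuotS_descend (hg : SGA1.UnivSubmersive g) {S₁ S₂ : Scheme.{u}} (j : S₁ ⟶ S) (c : S₂ ⟶ S₁)
    [Flat c] [Surjective c] [QuasiCompact c] (h : LocalQuotS D (c ≫ j)) : LocalQuotS D j := by
  obtain ⟨U₂, u₂, q₂, hqu, hpb, hinv, het, hsep, hqc⟩ := h
  haveI := het
  haveI := hsep
  haveI := hqc
  -- the induced descent datum on `U₂`
  obtain ⟨R, hR⟩ : ∃ R : SheafDesc.GlueRel u₂ c, R.Rel = QRel D j c u₂ q₂ :=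
    ⟨{ Rel := QRel D j c u₂ q₂
       refl := fun _ v => QRel.refl v
       symm := fun _ _ _ h => h.symm
       trans := fun _ _ _ _ h₁ h₂ => h₁.trans h₂
       comp := fun _ _ k _ _ h => h.comp k
       unique := fun _ _ _ _ h h' he => QRel.unique hg hqu hpb h h' he
       exists_rel := fun _ x₀ x₁ hx v hv => QRel.exists_rel hg hqu hpb hinv x₀ x₁ hx v hv }, rfl⟩
  haveI : LocallyQuasiFinite u₂ := UD5.locallyQuasiFinite_of_etale u₂
  have hqa : Mor2.IsQuasiAffine R.dd.obj.hom := isQuasiAffine_of_sep_lqf u₂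
  obtain ⟨U₁, u₁, ρ, hρpb, hρinv⟩ := EffDesc.exists_quot_of_local R.dd
    (fun W => EffDesc.localQuot_affineOpen_qaff R.dd hqa W.2)
  have hρpb' : IsPullback u₂ ρ c u₁ := hρpb
  have hρ : ∀ {T : Scheme.{u}} (v w : T ⟶ U₂), QRel D j c u₂ q₂ v w → v ≫ ρ = w ≫ ρ := by
    intro T v w hvw
    have h := hvw.1
    have key := hρinv (v ≫ u₂) (w ≫ u₂) h ⟨v, rfl⟩
    have e : R.dd.φ (v ≫ u₂) (w ≫ u₂) h ⟨v, rfl⟩ = ⟨w, rfl⟩ :=
      R.map_unique _ _ h ⟨v, rfl⟩ ⟨w, rfl⟩ (by rw [hR]; exact hvw)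
    rw [e] at key
    exact key.symm
  -- the fpqc cover `E₂ ⟶ E₁`
  have hθpb := isPullback_thetaK D j c (c ≫ j) rfl
  haveI : Flat (thetaK D j c (c ≫ j) rfl) :=
    MorphismProperty.of_isPullback (P := @Flat) hθpb.flip inferInstance
  haveI : Surjective (thetaK D j c (c ≫ j) rfl) :=
    MorphismProperty.of_isPullback (P := @Surjective) hθpb.flip inferInstance
  haveI : QuasiCompact (thetaK D j c (c ≫ j) rfl) :=
    MorphismProperty.of_isPullback (P := @QuasiCompact) hθpb.flip inferInstance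
  haveI : EffectiveEpi (thetaK D j c (c ≫ j) rfl) :=
    EffDescQ.effectiveEpi_of_fpqc _ (Scheme.Hom.singleton_mem_fpqcPrecoverage _)
  haveI : Epi (thetaK D j c (c ≫ j) rfl) := Flat.epi_of_flat_of_surjective _
  have hcompat : ∀ {T : Scheme.{u}} (z z' : T ⟶ pullback (D.obj.hom ≫ g) (c ≫ j)),
      z ≫ thetaK D j c (c ≫ j) rfl = z' ≫ thetaK D j c (c ≫ j) rfl → z ≫ q₂ ≫ ρ = z' ≫ q₂ ≫ ρ := by
    intro T z z' hz
    rw [← Category.assoc, ← Category.assoc]
    apply hρ
    have hf : z ≫ pullback.fst (D.obj.hom ≫ g) (c ≫ j) = z' ≫ pullback.fst (D.obj.hom ≫ g) (c ≫ j) := by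
      have := congrArg (· ≫ pullback.fst (D.obj.hom ≫ g) j) hz
      simpa only [Category.assoc, thetaK_fst] using this
    have hs : z ≫ pullback.snd (D.obj.hom ≫ g) (c ≫ j) ≫ c =
        z' ≫ pullback.snd (D.obj.hom ≫ g) (c ≫ j) ≫ c := by
      have := congrArg (· ≫ pullback.snd (D.obj.hom ≫ g) j) hz
      simpa only [Category.assoc, thetaK_snd] using this
    refine ⟨?_, fun T' t z₀ z₁ hf' h0 h1 => ?_⟩
    · have hqu' : q₂ ≫ u₂ ≫ c = pullback.snd (D.obj.hom ≫ g) (c ≫ j) ≫ c := by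
        rw [← Category.assoc, hqu]
      simp only [Category.assoc]
      rw [hqu']
      exact hs
    · have h0' : z₀ ≫ pullback.snd (D.obj.hom ≫ g) (c ≫ j) =
          (t ≫ z) ≫ pullback.snd (D.obj.hom ≫ g) (c ≫ j) := by
        rw [h0, Category.assoc, hqu, Category.assoc]
      have h1' : z₁ ≫ pullback.snd (D.obj.hom ≫ g) (c ≫ j) =
          (t ≫ z') ≫ pullback.snd (D.obj.hom ≫ g) (c ≫ j) := by
        rw [h1, Category.assoc, hqu, Category.assoc]
      have hf₁ : (t ≫ z) ≫ pullback.fst (D.obj.hom ≫ g) (c ≫ j) =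
          (t ≫ z') ≫ pullback.fst (D.obj.hom ≫ g) (c ≫ j) := by
        rw [Category.assoc, hf, Category.assoc]
      constructor
      · intro hq
        have := fibre_transfer D (c ≫ j) u₂ q₂ hpb hinv q₂ hinv z₀ (t ≫ z) z₁ (t ≫ z') h0' h1' hf'
          hf₁ (hq.trans (Category.assoc _ _ _).symm)
        exact this.symm.trans (Category.assoc _ _ _)
      · intro hq
        have := fibre_transfer D (c ≫ j) u₂ q₂ hpb hinv q₂ hinv z₁ (t ≫ z') z₀ (t ≫ z) h1' h0'
          hf'.symm hf₁.symm (hq.trans (Category.assoc _ _ _).symm)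
        exact this.symm.trans (Category.assoc _ _ _)
  obtain ⟨q₁, hq₁⟩ : ∃ q₁ : pullback (D.obj.hom ≫ g) j ⟶ U₁,
      thetaK D j c (c ≫ j) rfl ≫ q₁ = q₂ ≫ ρ :=
    ⟨EffectiveEpi.desc (thetaK D j c (c ≫ j) rfl) (q₂ ≫ ρ) (fun g₁ g₂ hg' => hcompat g₁ g₂ hg'),
      EffectiveEpi.fac _ _ _⟩
  have hqu₁ : q₁ ≫ u₁ = pullback.snd (D.obj.hom ≫ g) j := by
    rw [← cancel_epi (thetaK D j c (c ≫ j) rfl), ← Category.assoc, hq₁, Category.assoc, ← hρpb'.w,
      ← Category.assoc, hqu, thetaK_snd]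
  -- cartesian
  have hrK : restrK D j u₁ q₁ hqu₁ c (c ≫ j) rfl = q₂ ≫ hρpb'.flip.isoPullback.hom := by
    apply pullback.hom_ext
    · rw [restrK_fst, hq₁, Category.assoc, hρpb'.flip.isoPullback_hom_fst]
    · rw [restrK_snd, Category.assoc, hρpb'.flip.isoPullback_hom_snd, hqu]
  have hpbK : IsPullback (pullback.fst (D.obj.hom ≫ g) (c ≫ j) ≫ D.obj.hom)
      (restrK D j u₁ q₁ hqu₁ c (c ≫ j) rfl) g (pullback.snd u₁ c ≫ c ≫ j) := by
    rw [hrK]
    exact IsPullback.of_iso hpb (Iso.refl _) (Iso.refl _) hρpb'.flip.isoPullback (Iso.refl _)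
      (by simp) (by simp) (by simp) (by simp)
  have hisoK := (restrK_pb_iff D j u₁ q₁ hqu₁ c (c ≫ j) rfl).mp hpbK
  have hisoM : IsIso (cmpM D j u₁ q₁ hqu₁) := by
    have := MorphismProperty.of_isPullback_of_descendsAlong
      (P := MorphismProperty.isomorphisms Scheme.{u})
      (Q := (@Surjective ⊓ @Flat ⊓ @QuasiCompact : MorphismProperty Scheme.{u}))
      (isPullback_mapJ (pullback.snd (D.obj.hom ≫ g) j) (pullback.snd g (u₁ ≫ j) ≫ u₁)
        (cmpM D j u₁ q₁ hqu₁) (cmpM_hm D j u₁ q₁ hqu₁) c)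
      ⟨⟨inferInstance, inferInstance⟩, inferInstance⟩ hisoK
    exact this
  have hpb₁ : IsPullback (pullback.fst (D.obj.hom ≫ g) j ≫ D.obj.hom) q₁ g (u₁ ≫ j) :=
    isPullback_of_isIso_comp (IsPullback.of_hasPullback g (u₁ ≫ j)) (cmpM D j u₁ q₁ hqu₁)
      (cmpM_fst D j u₁ q₁ hqu₁) (cmpM_snd D j u₁ q₁ hqu₁)
  -- invariance
  have hinv₁ : EffDesc.IsLocInv D j q₁ := by
    intro T x₀ x₁ h v v₁ w₁ hv hw hs
    haveI : Epi (pullback.fst (v₁ ≫ pullback.snd (D.obj.hom ≫ g) j) c) :=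
      Flat.epi_of_flat_of_surjective _
    rw [← cancel_epi (pullback.fst (v₁ ≫ pullback.snd (D.obj.hom ≫ g) j) c)]
    have hcv : (pullback.fst (v₁ ≫ pullback.snd (D.obj.hom ≫ g) j) c ≫ v₁ ≫
        pullback.fst (D.obj.hom ≫ g) j) ≫ D.obj.hom ≫ g =
        pullback.snd (v₁ ≫ pullback.snd (D.obj.hom ≫ g) j) c ≫ c ≫ j := by
      rw [Category.assoc, Category.assoc, pullback.condition, ← Category.assoc v₁, ← Category.assoc,
        pullback.condition, Category.assoc]
    have hcw : (pullback.fst (v₁ ≫ pullback.snd (D.obj.hom ≫ g) j) c ≫ w₁ ≫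
        pullback.fst (D.obj.hom ≫ g) j) ≫ D.obj.hom ≫ g =
        pullback.snd (v₁ ≫ pullback.snd (D.obj.hom ≫ g) j) c ≫ c ≫ j := by
      rw [Category.assoc, Category.assoc, pullback.condition, ← Category.assoc w₁, ← hs,
        ← Category.assoc, pullback.condition, Category.assoc]
    have hθv : pullback.lift _ _ hcv ≫ thetaK D j c (c ≫ j) rfl =
        pullback.fst (v₁ ≫ pullback.snd (D.obj.hom ≫ g) j) c ≫ v₁ := by
      apply pullback.hom_ext
      · rw [Category.assoc, thetaK_fst, pullback.lift_fst, Category.assoc]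
      · rw [Category.assoc, thetaK_snd, ← Category.assoc, pullback.lift_snd, Category.assoc,
          pullback.condition]
    have hθw : pullback.lift _ _ hcw ≫ thetaK D j c (c ≫ j) rfl =
        pullback.fst (v₁ ≫ pullback.snd (D.obj.hom ≫ g) j) c ≫ w₁ := by
      apply pullback.hom_ext
      · rw [Category.assoc, thetaK_fst, pullback.lift_fst, Category.assoc]
      · rw [Category.assoc, thetaK_snd, ← Category.assoc, pullback.lift_snd, Category.assoc, ← hs,
          pullback.condition]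
    have h' : (pullback.fst (v₁ ≫ pullback.snd (D.obj.hom ≫ g) j) c ≫ x₀) ≫ g =
        (pullback.fst (v₁ ≫ pullback.snd (D.obj.hom ≫ g) j) c ≫ x₁) ≫ g := by
      rw [Category.assoc, Category.assoc, h]
    obtain ⟨v', hv'⟩ : ∃ v' : Lifts D.obj (pullback.fst (v₁ ≫ pullback.snd (D.obj.hom ≫ g) j) c ≫ x₀),
        v'.1 = pullback.fst (v₁ ≫ pullback.snd (D.obj.hom ≫ g) j) c ≫ v.1 :=
      ⟨⟨_, by rw [Category.assoc, v.2]⟩, rfl⟩
    have hnat : (D.φ _ _ h' v').1 =
        pullback.fst (v₁ ≫ pullback.snd (D.obj.hom ≫ g) j) c ≫ (D.φ x₀ x₁ h v).1 :=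
      D.φ_natural _ x₀ x₁ h h' v v' hv'
    have key := hinv _ _ h' v' (pullback.lift _ _ hcv) (pullback.lift _ _ hcw)
      (by rw [pullback.lift_fst, hv', hv]) (by rw [pullback.lift_fst, hnat, hw])
      ((pullback.lift_snd _ _ _).trans (pullback.lift_snd _ _ _).symm)
    rw [← Category.assoc, ← hθw, Category.assoc, hq₁, ← Category.assoc, key, Category.assoc, ← hq₁,
      ← Category.assoc, hθv, Category.assoc]
  -- properties of `u₁`
  have het₁ : Etale u₁ := MorphismProperty.of_isPullback_of_descendsAlong (P := @Etale)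
    (Q := (@Surjective ⊓ @Flat ⊓ @QuasiCompact : MorphismProperty Scheme.{u})) hρpb'
    ⟨⟨inferInstance, inferInstance⟩, inferInstance⟩ het
  haveI := Groth.Agent.S0081.result.{u}
  haveI := Groth.Agent.S0079.result.{u}
  have hsep₁ : IsSeparated u₁ := MorphismProperty.of_isPullback_of_descendsAlong (P := @IsSeparated)
    (Q := (@Surjective ⊓ @Flat ⊓ @QuasiCompact : MorphismProperty Scheme.{u})) hρpb'
    ⟨⟨inferInstance, inferInstance⟩, inferInstance⟩ hsep
  have hqc₁ : QuasiCompact u₁ := MorphismProperty.of_isPullback_of_descendsAlong (P := @QuasiCompact)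
    (Q := (@Surjective ⊓ @Flat ⊓ @QuasiCompact : MorphismProperty Scheme.{u})) hρpb'
    ⟨⟨inferInstance, inferInstance⟩, inferInstance⟩ hqc
  exact ⟨U₁, u₁, q₁, hqu₁, hpb₁, hinv₁, het₁, hsep₁, hqc₁⟩

end FQ3

end Groth.Agent.Lib.Helper28.EffDescE
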