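import Groth.Agent.Lib.Helper28.EffDescE.Spread6

/-!
# Effectivity of étale descent data is checked on the local rings of the base (helper28)
-/

set_option autoImplicit false
set_option maxHeartbeats 1600000
set_option backward.isDefEq.respectTransparency false
set_option backward.isDefEq.respectTransparency.types false
universe u
open CategoryTheory CategoryTheory.Limits AlgebraicGeometry

namespace Groth.Agent.Lib.Helper28.EffDescE

open Desc

/-- S5125 -/
theorem effective_iff_stalks {S S' : Scheme.{u}} (g : S' ⟶ S) (hg : SGA1.UnivSubmersive g)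
    [QuasiCompact g] [QuasiSeparated g]
    (D : Desc.SchDDFam (fun _ : PUnit.{1} => g)) [Etale (D.obj PUnit.unit).hom]
    [QuasiCompact (D.obj PUnit.unit).hom] [QuasiSeparated (D.obj PUnit.unit).hom] :
    (∃ U : Over S, Etale U.hom ∧ Nonempty ((Desc.toDDFam (fun _ : PUnit.{1} => g)).obj U ≅ D)) ↔
      ∀ a : S, (∃ U : Over (Spec (S.presheaf.stalk a)), Etale U.hom ∧
        Nonempty ((Desc.toDDFam (fun _ : PUnit.{1} => pullback.snd g (S.fromSpecStalk a))).obj U ≅
          (Desc.pullDDFam (f := fun _ : PUnit.{1} => g) (f' := fun _ : PUnit.{1} => pullback.snd g (S.fromSpecStalk a))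
        (α := id) (p := (S.fromSpecStalk a)) (p' := fun _ => pullback.fst g (S.fromSpecStalk a)) (fun _ => pullback.condition)).obj D)) := by
  constructor
  · rintro ⟨U, hU, ⟨e⟩⟩ a
    have := hU
    refine ⟨Over.mk (pullback.snd U.hom (S.fromSpecStalk a)),
      inferInstanceAs (Etale (pullback.snd U.hom (S.fromSpecStalk a))), ⟨?_⟩⟩
    exact (canPullPtEquiv (f := fun _ : PUnit.{1} => g)
      (f' := fun _ : PUnit.{1} => pullback.snd g (S.fromSpecStalk a))
      (α := id) (p := S.fromSpecStalk a) (p' := fun _ => pullback.fst g (S.fromSpecStalk a))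
      (fun _ => pullback.condition) U
      (Over.mk (pullback.snd U.hom (S.fromSpecStalk a))) (pullback.fst U.hom (S.fromSpecStalk a))
      (IsPullback.of_hasPullback _ _)).toIso ≪≫ (Desc.pullDDFam _).mapIso e
  · intro h
    choose W hWa hWeff using fun a => (nhd_iff_stalk g hg D a).mpr (h a)
    have hV : ⨆ a, W a = ⊤ :=
      eq_top_iff.mpr fun x _ => TopologicalSpace.Opens.mem_iSup.mpr ⟨x, hWa x⟩
    exact (etale_effective_iff_openCover g hg D W hV).mpr hWeff

end Groth.Agent.Lib.Helper28.EffDescE
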