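import Groth.Agent.Lib.Helper28.EffDescE.FQ3
import Groth.Agent.Lib.Helper28.EffDescE.Stalks

/-!
# fpqc descent of étale local quotients (helper28), part 4: effectivity of étale descent data is fpqc local on
the base (S5122), and can be checked on the completions of the local rings of a locally Noetherian base (S5126)
-/

set_option autoImplicit false
set_option maxHeartbeats 1600000
set_option backward.isDefEq.respectTransparency false
set_option backward.isDefEq.respectTransparency.types false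
universe u
open CategoryTheory CategoryTheory.Limits AlgebraicGeometry

namespace Groth.Agent.Lib.Helper28.EffDescE

open Desc Groth.Agent.Lib.Helper11

section TransferS

variable {X S : Scheme.{u}} {p : X ⟶ S} (D : SchDD p)

/-- a quotient of the base change of `D` along `j` is a local quotient over `j` (with the compatibility with the
projection to the base) -/
theorem transfer_iso' {S₁ : Scheme.{u}} (j : S₁ ⟶ S)
    (w : pullback.snd p j ≫ j = pullback.fst p j ≫ p)
    {U' : Scheme.{u}} (u' : U' ⟶ S₁) (q' : (EffDesc.pullDD (pullback.fst p j) j w D).obj.left ⟶ U')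
    (hpb' : IsPullback (EffDesc.pullDD (pullback.fst p j) j w D).obj.hom q' (pullback.snd p j) u')
    (hinv' : EffDesc.IsInv (EffDesc.pullDD (pullback.fst p j) j w D) q') :
    ∃ q₁ : pullback (D.obj.hom ≫ p) j ⟶ U',
      q₁ ≫ u' = pullback.snd (D.obj.hom ≫ p) j ∧
      IsPullback (pullback.fst (D.obj.hom ≫ p) j ≫ D.obj.hom) q₁ p (u' ≫ j) ∧
      EffDesc.IsLocInv D j q₁ := by
  have hpb'' : IsPullback (pullback.snd D.obj.hom (pullback.fst p j)) q' (pullback.snd p j) u' := hpb'
  obtain ⟨b₁, hb1, hb2, hR⟩ : ∃ b₁ : pullback (D.obj.hom ≫ p) j ⟶ pullback p j,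
      b₁ ≫ pullback.fst p j = pullback.fst (D.obj.hom ≫ p) j ≫ D.obj.hom ∧
      b₁ ≫ pullback.snd p j = pullback.snd (D.obj.hom ≫ p) j ∧
      IsPullback (pullback.fst (D.obj.hom ≫ p) j) b₁ D.obj.hom (pullback.fst p j) :=
    ⟨_, pullback.lift_fst _ _ _, pullback.lift_snd _ _ _, EffDesc.isPullback_lift_of_comp D.obj.hom p j⟩
  obtain ⟨ε, hε1, hε2⟩ : ∃ ε : pullback (D.obj.hom ≫ p) j ≅ pullback D.obj.hom (pullback.fst p j),
      ε.hom ≫ pullback.fst D.obj.hom (pullback.fst p j) = pullback.fst (D.obj.hom ≫ p) j ∧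
      ε.hom ≫ pullback.snd D.obj.hom (pullback.fst p j) = b₁ :=
    ⟨hR.isoPullback, hR.isoPullback_hom_fst, hR.isoPullback_hom_snd⟩
  refine ⟨ε.hom ≫ q', ?_, ?_, ?_⟩
  · rw [Category.assoc, ← hpb''.w, ← Category.assoc, hε2, hb2]
  · have P1 : IsPullback q' (pullback.snd D.obj.hom (pullback.fst p j) ≫ pullback.fst p j) (u' ≫ j) p :=
      hpb''.flip.paste_vert (IsPullback.of_hasPullback p j).flip
    have L : IsPullback ε.hom (pullback.fst (D.obj.hom ≫ p) j ≫ D.obj.hom)
        (pullback.snd D.obj.hom (pullback.fst p j) ≫ pullback.fst p j) (𝟙 X) :=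
      IsPullback.of_horiz_isIso ⟨by rw [← Category.assoc, hε2, hb1, Category.comp_id]⟩
    have := (L.paste_horiz P1).flip
    rw [Category.id_comp] at this
    exact this
  · intro T x₀ x₁ h v v₁ w₁ hv₁ hw₁ hs
    have hv2 : v.1 ≫ D.obj.hom = x₀ := v.2
    obtain ⟨s, hs0⟩ : ∃ s : T ⟶ S₁, s = v₁ ≫ pullback.snd (D.obj.hom ≫ p) j := ⟨_, rfl⟩
    have hy0 : x₀ ≫ p = s ≫ j := by
      rw [hs0, Category.assoc, ← pullback.condition, ← Category.assoc, hv₁, ← Category.assoc, hv2]
    have hy1 : x₁ ≫ p = s ≫ j := h.symm.trans hy0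
    obtain ⟨y₀, hy01, hy02⟩ : ∃ y₀ : T ⟶ pullback p j, y₀ ≫ pullback.fst p j = x₀ ∧
        y₀ ≫ pullback.snd p j = s := ⟨pullback.lift x₀ s hy0, pullback.lift_fst _ _ _, pullback.lift_snd _ _ _⟩
    obtain ⟨y₁, hy11, hy12⟩ : ∃ y₁ : T ⟶ pullback p j, y₁ ≫ pullback.fst p j = x₁ ∧
        y₁ ≫ pullback.snd p j = s := ⟨pullback.lift x₁ s hy1, pullback.lift_fst _ _ _, pullback.lift_snd _ _ _⟩
    have h' : y₀ ≫ pullback.snd p j = y₁ ≫ pullback.snd p j := hy02.trans hy12.symm
    have hvb : v₁ ≫ b₁ = y₀ := by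
      apply pullback.hom_ext
      · rw [Category.assoc, hb1, ← Category.assoc, hv₁, hv2, hy01]
      · rw [Category.assoc, hb2, hy02, hs0]
    have hwb : w₁ ≫ b₁ = y₁ := by
      apply pullback.hom_ext
      · rw [Category.assoc, hb1, ← Category.assoc, hw₁, EffDesc.phi_hom, hy11]
      · rw [Category.assoc, hb2, hy12, hs0, hs]
    obtain ⟨v', hv'⟩ : ∃ v' : Lifts (EffDesc.pullDD (pullback.fst p j) j w D).obj y₀,
        v'.1 = v₁ ≫ ε.hom := by
      refine ⟨⟨v₁ ≫ ε.hom, ?_⟩, rfl⟩
      change (v₁ ≫ ε.hom) ≫ pullback.snd D.obj.hom (pullback.fst p j) = y₀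
      rw [Category.assoc, hε2, hvb]
    have key := hinv' y₀ y₁ h' v'
    have hL : ((EffDesc.pullDD (pullback.fst p j) j w D).φ y₀ y₁ h' v').1 = w₁ ≫ ε.hom := by
      apply pullback.hom_ext
      · rw [EffDesc.pullDD_phi_fst, Category.assoc, hε1, hw₁]
        refine EffDesc.phi_congr D hy01 hy11 _ h _ v ?_
        change v'.1 ≫ pullback.fst D.obj.hom (pullback.fst p j) = v.1
        rw [hv', Category.assoc, hε1, hv₁]
      · rw [Category.assoc, hε2, hwb]
        exact EffDesc.phi_hom (EffDesc.pullDD (pullback.fst p j) j w D) y₀ y₁ h' v'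
    rw [hL, hv'] at key
    rw [← Category.assoc, key, Category.assoc]


end TransferS

section SepQc

variable {S S' S₁ : Scheme.{u}} {g : S' ⟶ S} {D : SchDD g}

theorem LocalQuotS.toE {j : S₁ ⟶ S} (h : LocalQuotS D j) : LocalQuotE D j := by
  obtain ⟨U₁, u₁, q₁, -, hpb, hinv, het, -, -⟩ := h
  exact ⟨U₁, u₁, q₁, hpb, hinv, het⟩

/-- separatedness and quasi-compactness of an étale local quotient are inherited from the datum -/
theorem sep_qc_of_quot (hg : SGA1.UnivSubmersive g) [QuasiCompact g]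
    [IsSeparated D.obj.hom] [QuasiCompact D.obj.hom] (j : S₁ ⟶ S) {U₁ : Scheme.{u}} (u₁ : U₁ ⟶ S₁)
    [Etale u₁] (q₁ : pullback (D.obj.hom ≫ g) j ⟶ U₁)
    (hqu : q₁ ≫ u₁ = pullback.snd (D.obj.hom ≫ g) j)
    (hpb : IsPullback (pullback.fst (D.obj.hom ≫ g) j ≫ D.obj.hom) q₁ g (u₁ ≫ j)) :
    IsSeparated u₁ ∧ QuasiCompact u₁ := by
  have hgT : SGA1.UnivSubmersive (pullback.snd g j) := univSubmersive_snd hg j
  have hR : IsPullback (pullback.fst (D.obj.hom ≫ g) j) (rhoJ D j) D.obj.hom (pullback.fst g j) :=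
    EffDesc.isPullback_lift_of_comp D.obj.hom g j
  haveI : IsSeparated (rhoJ D j) := MorphismProperty.of_isPullback (P := @IsSeparated) hR inferInstance
  haveI : QuasiCompact (rhoJ D j) := MorphismProperty.of_isPullback (P := @QuasiCompact) hR inferInstance
  have hiso := isPullback_rhoJ D j u₁ q₁ hqu hpb
  have e : pullback.snd u₁ (pullback.snd g j) = hiso.isoPullback.inv ≫ rhoJ D j := by
    rw [Iso.eq_inv_comp, hiso.isoPullback_hom_snd]
  haveI : IsSeparated (pullback.snd u₁ (pullback.snd g j)) := by rw [e]; infer_instance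
  haveI : QuasiCompact (pullback.snd u₁ (pullback.snd g j)) := by rw [e]; infer_instance
  exact ⟨UD5.isSeparated_descent (pullback.snd g j) hgT u₁,
    UD5.quasiCompact_descent (pullback.snd g j) hgT u₁⟩

end SepQc

section Conv

variable {S S' S₁ : Scheme.{u}} (g : S' ⟶ S) (D : Desc.SchDDFam (fun _ : PUnit.{1} => g))

/-- the base change of `D` along `j` is the canonical datum of a scheme `U` only if `D` has a cartesian invariant
local quotient over `j` with target `U` -/
theorem quotS_of_fam (j : S₁ ⟶ S) (U : Over S₁)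
    (e : (Desc.toDDFam (fun _ : PUnit.{1} => pullback.snd g j)).obj U ≅
        (Desc.pullDDFam (f := fun _ : PUnit.{1} => g) (f' := fun _ : PUnit.{1} => pullback.snd g j)
          (α := id) (p := j) (p' := fun _ => pullback.fst g j) (fun _ => pullback.condition)).obj D) :
    ∃ q₁ : pullback (((SchDDFam.toSchDD g).obj D).obj.hom ≫ g) j ⟶ U.left,
      q₁ ≫ U.hom = pullback.snd (((SchDDFam.toSchDD g).obj D).obj.hom ≫ g) j ∧
      IsPullback (pullback.fst (((SchDDFam.toSchDD g).obj D).obj.hom ≫ g) j ≫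
        ((SchDDFam.toSchDD g).obj D).obj.hom) q₁ g (U.hom ≫ j) ∧
      EffDesc.IsLocInv ((SchDDFam.toSchDD g).obj D) j q₁ := by
  have w' : pullback.snd g j ≫ j = pullback.fst g j ≫ g := pullback.condition.symm
  have e' : (toDD (pullback.snd g j)).obj U ≅
      EffDesc.pullDD (pullback.fst g j) j w' ((SchDDFam.toSchDD g).obj D) :=
    (SchDDFam.toSchDD (pullback.snd g j)).mapIso e
  obtain ⟨q', hpb', hinv'⟩ := EffDesc.quot_of_effective _ U e'
  exact transfer_iso' ((SchDDFam.toSchDD g).obj D) j w' U.hom q' hpb' hinv'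

/-- the base change of `D` along `j` is the canonical datum of an étale separated quasi-compact scheme only if `D`
has an étale separated quasi-compact local quotient over `j` -/
theorem localQuotS_of_fam (j : S₁ ⟶ S) (U : Over S₁) (hU : Etale U.hom) (hsep : IsSeparated U.hom)
    (hqc : QuasiCompact U.hom)
    (e : (Desc.toDDFam (fun _ : PUnit.{1} => pullback.snd g j)).obj U ≅
        (Desc.pullDDFam (f := fun _ : PUnit.{1} => g) (f' := fun _ : PUnit.{1} => pullback.snd g j)
          (α := id) (p := j) (p' := fun _ => pullback.fst g j) (fun _ => pullback.condition)).obj D) :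
    LocalQuotS ((SchDDFam.toSchDD g).obj D) j := by
  obtain ⟨q₁, hqu₁, hpb₁, hinv₁⟩ := quotS_of_fam g D j U e
  exact ⟨_, U.hom, q₁, hqu₁, hpb₁, hinv₁, hU, hsep, hqc⟩

/-- a local quotient over the identity is a global quotient -/
theorem fam_of_localQuotS_id (h : LocalQuotS ((SchDDFam.toSchDD g).obj D) (𝟙 S)) :
    ∃ U : Over S, Etale U.hom ∧ IsSeparated U.hom ∧ QuasiCompact U.hom ∧
      Nonempty ((Desc.toDDFam (fun _ : PUnit.{1} => g)).obj U ≅ D) := by
  obtain ⟨U, u, q, hqu, hpb, hinv, het, hsep, hqc⟩ := h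
  have hPB : IsPullback ((SchDDFam.toSchDD g).obj D).obj.hom
      (inv (pullback.fst (((SchDDFam.toSchDD g).obj D).obj.hom ≫ g) (𝟙 S)) ≫ q) g u :=
    IsPullback.of_iso hpb (asIso (pullback.fst (((SchDDFam.toSchDD g).obj D).obj.hom ≫ g) (𝟙 S)))
      (Iso.refl _) (Iso.refl _) (Iso.refl _) (by simp) (by simp) (by simp) (by simp)
  have hs : inv (pullback.fst (((SchDDFam.toSchDD g).obj D).obj.hom ≫ g) (𝟙 S)) ≫
      pullback.snd (((SchDDFam.toSchDD g).obj D).obj.hom ≫ g) (𝟙 S) =
      ((SchDDFam.toSchDD g).obj D).obj.hom ≫ g := by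
    rw [IsIso.inv_comp_eq, pullback.condition, Category.comp_id]
  have hI : EffDesc.IsInv ((SchDDFam.toSchDD g).obj D)
      (inv (pullback.fst (((SchDDFam.toSchDD g).obj D).obj.hom ≫ g) (𝟙 S)) ≫ q) := by
    intro T x₀ x₁ h v
    have hv2 : v.1 ≫ ((SchDDFam.toSchDD g).obj D).obj.hom = x₀ := v.2
    have := hinv x₀ x₁ h v
      (v.1 ≫ inv (pullback.fst (((SchDDFam.toSchDD g).obj D).obj.hom ≫ g) (𝟙 S)))
      ((((SchDDFam.toSchDD g).obj D).φ x₀ x₁ h v).1 ≫
        inv (pullback.fst (((SchDDFam.toSchDD g).obj D).obj.hom ≫ g) (𝟙 S)))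
      (by rw [Category.assoc, IsIso.inv_hom_id, Category.comp_id])
      (by rw [Category.assoc, IsIso.inv_hom_id, Category.comp_id])
      (by rw [Category.assoc, Category.assoc, hs, ← Category.assoc, ← Category.assoc, hv2,
        EffDesc.phi_hom, h])
    simpa only [Category.assoc] using this
  obtain ⟨e⟩ := EffDesc.effective_of_quot ((SchDDFam.toSchDD g).obj D) u _ hPB hI
  refine ⟨Over.mk u, het, hsep, hqc, ⟨?_⟩⟩
  exact ((SchDDFam.oneEquiv g).unitIso.app ((Desc.toDDFam (fun _ : PUnit.{1} => g)).obj (Over.mk u))) ≪≫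
    (SchDDFam.ofSchDD g).mapIso e ≪≫ ((SchDDFam.oneEquiv g).unitIso.app D).symm

end Conv

section Main

/-- S5122 -/
theorem etale_sep_effective_iff_fpqc {S S' S₁ : Scheme.{u}} (g : S' ⟶ S) (hg : SGA1.UnivSubmersive g)
    (D : Desc.SchDDFam (fun _ : PUnit.{1} => g))
    (p : S₁ ⟶ S) [Flat p] [Surjective p] [QuasiCompact p] :
    (∃ U : Over S, Etale U.hom ∧ IsSeparated U.hom ∧ QuasiCompact U.hom ∧ Nonempty ((Desc.toDDFam (fun _ : PUnit.{1} => g)).obj U ≅ D)) ↔
      (∃ U : Over S₁, Etale U.hom ∧ IsSeparated U.hom ∧ QuasiCompact U.hom ∧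
        Nonempty ((Desc.toDDFam (fun _ : PUnit.{1} => pullback.snd g p)).obj U ≅
          (Desc.pullDDFam (f := fun _ : PUnit.{1} => g) (f' := fun _ : PUnit.{1} => pullback.snd g p)
        (α := id) (p := p) (p' := fun _ => pullback.fst g p) (fun _ => pullback.condition)).obj D)) := by
  constructor
  · rintro ⟨U, hU, hsep, hqc, ⟨e⟩⟩
    have := hU
    have := hsep
    have := hqc
    refine ⟨Over.mk (pullback.snd U.hom p), inferInstanceAs (Etale (pullback.snd U.hom p)),
      inferInstanceAs (IsSeparated (pullback.snd U.hom p)),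
      inferInstanceAs (QuasiCompact (pullback.snd U.hom p)), ⟨?_⟩⟩
    exact (canPullPtEquiv (f := fun _ : PUnit.{1} => g) (f' := fun _ : PUnit.{1} => pullback.snd g p)
      (α := id) (p := p) (p' := fun _ => pullback.fst g p) (fun _ => pullback.condition) U
      (Over.mk (pullback.snd U.hom p)) (pullback.fst U.hom p)
      (IsPullback.of_hasPullback _ _)).toIso ≪≫ (Desc.pullDDFam _).mapIso e
  · rintro ⟨U, hU, hsep, hqc, ⟨e⟩⟩
    have h1 := localQuotS_of_fam g D p U hU hsep hqc e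
    have h2 : LocalQuotS ((SchDDFam.toSchDD g).obj D) (p ≫ 𝟙 S) := by rwa [Category.comp_id]
    exact fam_of_localQuotS_id g D (localQuotS_descend hg (𝟙 S) p h2)

end Main

end Groth.Agent.Lib.Helper28.EffDescE
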