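import Groth.Agent.Lib.Helper28.EffDescE.FQ4

/-!
# Effectivity of étale descent data can be checked on the completions of the local rings of a locally Noetherian
base (helper28; S5126)
-/

set_option autoImplicit false
set_option maxHeartbeats 1600000
set_option backward.isDefEq.respectTransparency false
set_option backward.isDefEq.respectTransparency.types false
universe u
open CategoryTheory CategoryTheory.Limits AlgebraicGeometry

namespace Groth.Agent.Lib.Helper28.EffDescE

open Desc

/-- the completion of a Noetherian local ring is faithfully flat -/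
theorem completion_fpqc (R : Type u) [CommRing R] [IsNoetherianRing R] [IsLocalRing R] :
    Flat (Spec.map (CommRingCat.ofHom (algebraMap R (AdicCompletion (IsLocalRing.maximalIdeal R) R)))) ∧
    Surjective (Spec.map (CommRingCat.ofHom
      (algebraMap R (AdicCompletion (IsLocalRing.maximalIdeal R) R)))) := by
  rw [flat_and_surjective_SpecMap_iff]
  show (algebraMap R (AdicCompletion (IsLocalRing.maximalIdeal R) R)).FaithfullyFlat
  rw [RingHom.faithfullyFlat_algebraMap_iff]
  exact Module.FaithfullyFlat.of_flat_of_isLocalHom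

/-- base change of an effective étale descent datum is effective -/
theorem fam_baseChange {S S' S₁ : Scheme.{u}} (g : S' ⟶ S) (D : Desc.SchDDFam (fun _ : PUnit.{1} => g))
    (p : S₁ ⟶ S)
    (h : ∃ U : Over S, Etale U.hom ∧ Nonempty ((Desc.toDDFam (fun _ : PUnit.{1} => g)).obj U ≅ D)) :
    ∃ U : Over S₁, Etale U.hom ∧
      Nonempty ((Desc.toDDFam (fun _ : PUnit.{1} => pullback.snd g p)).obj U ≅
        (Desc.pullDDFam (f := fun _ : PUnit.{1} => g) (f' := fun _ : PUnit.{1} => pullback.snd g p)
          (α := id) (p := p) (p' := fun _ => pullback.fst g p) (fun _ => pullback.condition)).obj D) := by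
  obtain ⟨U, hU, ⟨e⟩⟩ := h
  have := hU
  refine ⟨Over.mk (pullback.snd U.hom p), inferInstanceAs (Etale (pullback.snd U.hom p)), ⟨?_⟩⟩
  exact (canPullPtEquiv (f := fun _ : PUnit.{1} => g) (f' := fun _ : PUnit.{1} => pullback.snd g p)
    (α := id) (p := p) (p' := fun _ => pullback.fst g p) (fun _ => pullback.condition) U
    (Over.mk (pullback.snd U.hom p)) (pullback.fst U.hom p)
    (IsPullback.of_hasPullback _ _)).toIso ≪≫ (Desc.pullDDFam _).mapIso e

/-- descent of effectivity along an fpqc morphism to the spectrum of a local ring of the base -/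
theorem fam_stalk_of_fam_cover {S S' : Scheme.{u}} (g : S' ⟶ S) (hg : SGA1.UnivSubmersive g) [QuasiCompact g]
    (D : Desc.SchDDFam (fun _ : PUnit.{1} => g))
    [QuasiCompact (D.obj PUnit.unit).hom] [IsSeparated (D.obj PUnit.unit).hom] (a : S)
    {S₂ : Scheme.{u}} (c : S₂ ⟶ Spec (S.presheaf.stalk a)) [Flat c] [Surjective c] [QuasiCompact c]
    (h : ∃ U : Over S₂, Etale U.hom ∧
        Nonempty ((Desc.toDDFam (fun _ : PUnit.{1} => pullback.snd g (c ≫ S.fromSpecStalk a))).obj U ≅
          (Desc.pullDDFam (f := fun _ : PUnit.{1} => g)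
            (f' := fun _ : PUnit.{1} => pullback.snd g (c ≫ S.fromSpecStalk a))
            (α := id) (p := c ≫ S.fromSpecStalk a) (p' := fun _ => pullback.fst g (c ≫ S.fromSpecStalk a))
            (fun _ => pullback.condition)).obj D)) :
    ∃ U : Over (Spec (S.presheaf.stalk a)), Etale U.hom ∧
        Nonempty ((Desc.toDDFam (fun _ : PUnit.{1} => pullback.snd g (S.fromSpecStalk a))).obj U ≅
          (Desc.pullDDFam (f := fun _ : PUnit.{1} => g) (f' := fun _ : PUnit.{1} => pullback.snd g (S.fromSpecStalk a))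
        (α := id) (p := (S.fromSpecStalk a)) (p' := fun _ => pullback.fst g (S.fromSpecStalk a)) (fun _ => pullback.condition)).obj D) := by
  haveI : QuasiCompact ((SchDDFam.toSchDD g).obj D).obj.hom := ‹QuasiCompact (D.obj PUnit.unit).hom›
  haveI : IsSeparated ((SchDDFam.toSchDD g).obj D).obj.hom := ‹IsSeparated (D.obj PUnit.unit).hom›
  obtain ⟨U, hU, ⟨e⟩⟩ := h
  haveI := hU
  obtain ⟨q₁, hqu₁, hpb₁, hinv₁⟩ := quotS_of_fam g D (c ≫ S.fromSpecStalk a) U e
  obtain ⟨hsep, hqc⟩ := sep_qc_of_quot hg (c ≫ S.fromSpecStalk a) U.hom q₁ hqu₁ hpb₁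
  have h1 : LocalQuotS ((SchDDFam.toSchDD g).obj D) (c ≫ S.fromSpecStalk a) :=
    ⟨_, U.hom, q₁, hqu₁, hpb₁, hinv₁, hU, hsep, hqc⟩
  have h2 := localQuotS_descend hg (S.fromSpecStalk a) c h1
  exact fam_of_localQuotE g D (S.fromSpecStalk a) h2.toE

/-- S5126 -/
theorem effective_iff_completions {S S' : Scheme.{u}} [IsLocallyNoetherian S] (g : S' ⟶ S)
    (hg : SGA1.UnivSubmersive g) [QuasiCompact g] [QuasiSeparated g]
    (D : Desc.SchDDFam (fun _ : PUnit.{1} => g)) [Etale (D.obj PUnit.unit).hom]
    [QuasiCompact (D.obj PUnit.unit).hom] [IsSeparated (D.obj PUnit.unit).hom] :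
    (∃ U : Over S, Etale U.hom ∧ Nonempty ((Desc.toDDFam (fun _ : PUnit.{1} => g)).obj U ≅ D)) ↔ ∀ a : S,
      (∃ U : Over (Spec (CommRingCat.of (AdicCompletion (IsLocalRing.maximalIdeal (S.presheaf.stalk a)) (S.presheaf.stalk a)))), Etale U.hom ∧
        Nonempty ((Desc.toDDFam (fun _ : PUnit.{1} => pullback.snd g (Spec.map (CommRingCat.ofHom (algebraMap (S.presheaf.stalk a)
          (AdicCompletion (IsLocalRing.maximalIdeal (S.presheaf.stalk a)) (S.presheaf.stalk a)))) ≫ S.fromSpecStalk a))).obj U ≅
          (Desc.pullDDFam (f := fun _ : PUnit.{1} => g) (f' := fun _ : PUnit.{1} => pullback.snd g (Spec.map (CommRingCat.ofHom (algebraMap (S.presheaf.stalk a)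
          (AdicCompletion (IsLocalRing.maximalIdeal (S.presheaf.stalk a)) (S.presheaf.stalk a)))) ≫ S.fromSpecStalk a))
        (α := id) (p := (Spec.map (CommRingCat.ofHom (algebraMap (S.presheaf.stalk a)
          (AdicCompletion (IsLocalRing.maximalIdeal (S.presheaf.stalk a)) (S.presheaf.stalk a)))) ≫ S.fromSpecStalk a)) (p' := fun _ => pullback.fst g (Spec.map (CommRingCat.ofHom (algebraMap (S.presheaf.stalk a)
          (AdicCompletion (IsLocalRing.maximalIdeal (S.presheaf.stalk a)) (S.presheaf.stalk a)))) ≫ S.fromSpecStalk a)) (fun _ => pullback.condition)).obj D)) := by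
  constructor
  · intro h a
    exact fam_baseChange g D _ h
  · intro h
    refine (effective_iff_stalks g hg D).mpr fun a => ?_
    obtain ⟨hfl, hsurj⟩ := completion_fpqc (S.presheaf.stalk a)
    haveI := hfl
    haveI := hsurj
    exact fam_stalk_of_fam_cover g hg D a _ (h a)

end Groth.Agent.Lib.Helper28.EffDescE
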