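import Groth.Agent.Lib.Helper28.EffDescE.FQ5
import Groth.Agent.Lib.Helper28.Gonf.Compl

/-!
# Effectivity of étale descent data can be checked over complete Noetherian local rings with algebraically closed
residue field (helper28; S5127)
-/

set_option autoImplicit false
set_option maxHeartbeats 1600000
set_option backward.isDefEq.respectTransparency false
set_option backward.isDefEq.respectTransparency.types false
universe u
open CategoryTheory CategoryTheory.Limits AlgebraicGeometry

namespace Groth.Agent.Lib.Helper28.EffDescE

open Desc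

/-- S5127 -/
theorem effective_iff_complete_algClosed {S S' : Scheme.{u}} [IsLocallyNoetherian S]
    (g : S' ⟶ S) (hg : SGA1.UnivSubmersive g) [LocallyOfFinitePresentation g] [QuasiCompact g] [QuasiSeparated g]
    (D : Desc.SchDDFam (fun _ : PUnit.{1} => g)) [Etale (D.obj PUnit.unit).hom]
    [QuasiCompact (D.obj PUnit.unit).hom] [IsSeparated (D.obj PUnit.unit).hom] :
    (∃ U : Over S, Etale U.hom ∧ Nonempty ((Desc.toDDFam (fun _ : PUnit.{1} => g)).obj U ≅ D)) ↔ ∀ (B : Type u) [CommRing B] [IsNoetherianRing B] [IsLocalRing B]
      [IsAdicComplete (IsLocalRing.maximalIdeal B) B] [IsAlgClosed (IsLocalRing.ResidueField B)]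
      (q : Spec (CommRingCat.of B) ⟶ S), (∃ U : Over (Spec (CommRingCat.of B)), Etale U.hom ∧
        Nonempty ((Desc.toDDFam (fun _ : PUnit.{1} => pullback.snd g q)).obj U ≅
          (Desc.pullDDFam (f := fun _ : PUnit.{1} => g) (f' := fun _ : PUnit.{1} => pullback.snd g q)
        (α := id) (p := q) (p' := fun _ => pullback.fst g q) (fun _ => pullback.condition)).obj D)) := by
  constructor
  · intro h B _ _ _ _ _ q
    exact fam_baseChange g D q h
  · intro h
    refine (effective_iff_stalks g hg D).mpr fun a => ?_
    obtain ⟨B, _, hn, hl, hc, hac, f, hf, hloc⟩ := Gonf.gonflement (S.presheaf.stalk a)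
    let c : Spec (CommRingCat.of B) ⟶ Spec (S.presheaf.stalk a) := Spec.map (CommRingCat.ofHom f)
    have hff : f.FaithfullyFlat := by
      letI := f.toAlgebra
      haveI : Module.Flat (S.presheaf.stalk a) B := hf
      haveI : IsLocalHom (algebraMap (S.presheaf.stalk a) B) := hloc
      show (algebraMap (S.presheaf.stalk a) B).FaithfullyFlat
      rw [RingHom.faithfullyFlat_algebraMap_iff]
      exact Module.FaithfullyFlat.of_flat_of_isLocalHom
    obtain ⟨hfl, hsurj⟩ : Flat c ∧ Surjective c := (flat_and_surjective_SpecMap_iff _).mpr hff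
    haveI := hfl
    haveI := hsurj
    exact fam_stalk_of_fam_cover g hg D a c (h B (c ≫ S.fromSpecStalk a))

end Groth.Agent.Lib.Helper28.EffDescE
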