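import Groth.Agent.Lib.Helper28.EffDescE.LocalE

/-!
# Effective descent of étale schemes along universally submersive morphisms (helper28): gluing

* `exists_quot_of_local_basis_et`: étale local quotients over the members of a basis of the base glue to an
  étale cartesian invariant quotient.
-/

set_option autoImplicit false
set_option maxHeartbeats 1600000
set_option backward.isDefEq.respectTransparency false
set_option backward.isDefEq.respectTransparency.types false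
universe u
open CategoryTheory CategoryTheory.Limits AlgebraicGeometry

namespace Groth.Agent.Lib.Helper28.EffDescE

open Desc Groth.Agent.Lib.Helper11 Groth.Agent.Lib.Helper28.EffDescQ

variable {X S : Scheme.{u}} {p : X ⟶ S} (D : SchDD p)

/-- a morphism which is locally (on the base) a composite of locally invariant morphisms is invariant -/
theorem isInv_of_local (𝒰 : S.OpenCover) {U' : Scheme.{u}} (q' : D.obj.left ⟶ U')
    (U : 𝒰.I₀ → Scheme.{u}) (q : ∀ i, pullback (D.obj.hom ≫ p) (𝒰.f i) ⟶ U i)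
    (hinv : ∀ i, EffDesc.IsLocInv D (𝒰.f i) (q i))
    (hι : ∀ i, ∃ ι : U i ⟶ U', pullback.fst (D.obj.hom ≫ p) (𝒰.f i) ≫ q' = q i ≫ ι) :
    EffDesc.IsInv D q' := by
  intro T x₀ x₁ h v
  apply Scheme.Cover.hom_ext (𝒰.pullback₁ (x₀ ≫ p))
  intro i
  obtain ⟨ι, hιi⟩ := hι i
  change pullback.fst (x₀ ≫ p) (𝒰.f i) ≫ (D.φ x₀ x₁ h v).1 ≫ q' =
    pullback.fst (x₀ ≫ p) (𝒰.f i) ≫ v.1 ≫ q'
  have h' : (pullback.fst (x₀ ≫ p) (𝒰.f i) ≫ x₀) ≫ p = (pullback.fst (x₀ ≫ p) (𝒰.f i) ≫ x₁) ≫ p := by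
    rw [Category.assoc, Category.assoc, h]
  obtain ⟨v', hv'⟩ : ∃ v' : Lifts D.obj (pullback.fst (x₀ ≫ p) (𝒰.f i) ≫ x₀),
      v'.1 = pullback.fst (x₀ ≫ p) (𝒰.f i) ≫ v.1 :=
    ⟨⟨pullback.fst (x₀ ≫ p) (𝒰.f i) ≫ v.1, by rw [Category.assoc, v.2]⟩, rfl⟩
  have hnat : (D.φ _ _ h' v').1 = pullback.fst (x₀ ≫ p) (𝒰.f i) ≫ (D.φ x₀ x₁ h v).1 :=
    D.φ_natural _ x₀ x₁ h h' v v' hv'
  have c1 : (pullback.fst (x₀ ≫ p) (𝒰.f i) ≫ v.1) ≫ D.obj.hom ≫ p =
      pullback.snd (x₀ ≫ p) (𝒰.f i) ≫ 𝒰.f i := by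
    rw [Category.assoc, ← Category.assoc v.1, v.2, pullback.condition]
  have c2 : (pullback.fst (x₀ ≫ p) (𝒰.f i) ≫ (D.φ x₀ x₁ h v).1) ≫ D.obj.hom ≫ p =
      pullback.snd (x₀ ≫ p) (𝒰.f i) ≫ 𝒰.f i := by
    rw [Category.assoc, ← Category.assoc _ D.obj.hom, EffDesc.phi_hom, ← h, pullback.condition]
  have key : pullback.lift _ _ c2 ≫ q i = pullback.lift _ _ c1 ≫ q i :=
    hinv i _ _ h' v' (pullback.lift _ _ c1) (pullback.lift _ _ c2)
      ((pullback.lift_fst _ _ _).trans hv'.symm) ((pullback.lift_fst _ _ _).trans hnat.symm)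
      ((pullback.lift_snd _ _ _).trans (pullback.lift_snd _ _ _).symm)
  calc pullback.fst (x₀ ≫ p) (𝒰.f i) ≫ (D.φ x₀ x₁ h v).1 ≫ q'
      = pullback.lift _ _ c2 ≫ pullback.fst (D.obj.hom ≫ p) (𝒰.f i) ≫ q' := by
        rw [← Category.assoc, ← Category.assoc, pullback.lift_fst]
    _ = pullback.lift _ _ c2 ≫ q i ≫ ι := by rw [hιi]
    _ = pullback.lift _ _ c1 ≫ q i ≫ ι := by rw [← Category.assoc, key, Category.assoc]
    _ = pullback.lift _ _ c1 ≫ pullback.fst (D.obj.hom ≫ p) (𝒰.f i) ≫ q' := by rw [hιi]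
    _ = pullback.fst (x₀ ≫ p) (𝒰.f i) ≫ v.1 ≫ q' := by
        rw [← Category.assoc, ← Category.assoc, pullback.lift_fst]

/-- étale local quotients over the members of a locally directed open cover glue -/
theorem exists_quot_of_local_cover_et (hp : SGA1.UnivSubmersive p)
    (𝒰 : S.OpenCover) [Category 𝒰.I₀] [𝒰.LocallyDirected] [Small.{u} 𝒰.I₀] [Quiver.IsThin 𝒰.I₀]
    (hloc : ∀ i : 𝒰.I₀, LocalQuotE D (𝒰.f i)) :
    ∃ (U : Scheme.{u}) (u : U ⟶ S) (q : D.obj.left ⟶ U), IsPullback D.obj.hom q p u ∧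
      EffDesc.IsInv D q ∧ Etale u := by
  choose U u q hpb hinv het using hloc
  haveI : ∀ i, Etale (u i) := het
  haveI hsurj : ∀ i, Surjective (q i) := fun i => surjective_of_bc hp (hpb i).flip
  have hqu : ∀ i, q i ≫ u i = pullback.snd (D.obj.hom ≫ p) (𝒰.f i) := by
    intro i
    rw [← cancel_mono (𝒰.f i), Category.assoc, ← (hpb i).w, Category.assoc, pullback.condition]
  have hτ : ∀ {i j : 𝒰.I₀} (hij : i ⟶ j), ∃ τ : U i ⟶ U j,
      τ ≫ u j ≫ 𝒰.f j = u i ≫ 𝒰.f i ∧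
      q i ≫ τ = EffDesc.tmap 𝒰 (D.obj.hom ≫ p) hij ≫ q j := by
    intro i j hij
    refine local_desc_et D hp (𝒰.f i) (u i) (q i) (hpb i) (hinv i) (u j ≫ 𝒰.f j) _ ?_ ?_
    · calc (EffDesc.tmap 𝒰 (D.obj.hom ≫ p) hij ≫ q j) ≫ u j ≫ 𝒰.f j
          = EffDesc.tmap 𝒰 (D.obj.hom ≫ p) hij ≫ (q j ≫ u j) ≫ 𝒰.f j := by simp only [Category.assoc]
        _ = (EffDesc.tmap 𝒰 (D.obj.hom ≫ p) hij ≫ pullback.snd (D.obj.hom ≫ p) (𝒰.f j)) ≫ 𝒰.f j := by
            rw [hqu, Category.assoc]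
        _ = pullback.snd (D.obj.hom ≫ p) (𝒰.f i) ≫ 𝒰.f i := by
            rw [EffDesc.tmap_snd, Category.assoc, 𝒰.trans_map]
        _ = q i ≫ u i ≫ 𝒰.f i := by rw [← Category.assoc, hqu]
    · intro T x₀ x₁ h v v₁ w₁ hv hw hs
      rw [← Category.assoc, ← Category.assoc]
      refine hinv j x₀ x₁ h v (v₁ ≫ EffDesc.tmap 𝒰 (D.obj.hom ≫ p) hij)
        (w₁ ≫ EffDesc.tmap 𝒰 (D.obj.hom ≫ p) hij) ?_ ?_ ?_
      · rw [Category.assoc]
        exact (congrArg (v₁ ≫ ·) (EffDesc.tmap_fst 𝒰 (D.obj.hom ≫ p) hij)).trans hv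
      · rw [Category.assoc]
        exact (congrArg (w₁ ≫ ·) (EffDesc.tmap_fst 𝒰 (D.obj.hom ≫ p) hij)).trans hw
      · rw [Category.assoc, Category.assoc]
        refine (congrArg (v₁ ≫ ·) (EffDesc.tmap_snd 𝒰 (D.obj.hom ≫ p) hij)).trans ?_
        refine Eq.trans ?_ (congrArg (w₁ ≫ ·) (EffDesc.tmap_snd 𝒰 (D.obj.hom ≫ p) hij)).symm
        exact (Category.assoc _ _ _).symm.trans
          ((congrArg (· ≫ 𝒰.trans hij) hs).trans (Category.assoc _ _ _))
  choose τ hτ1 hτ2 using @hτ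
  have hnat : ∀ {i j : 𝒰.I₀} (hij : i ⟶ j), τ hij ≫ u j = u i ≫ 𝒰.trans hij := by
    intro i j hij
    rw [← cancel_mono (𝒰.f j), Category.assoc, hτ1, Category.assoc, 𝒰.trans_map]
  have hid : ∀ i : 𝒰.I₀, τ (𝟙 i) = 𝟙 (U i) := by
    intro i
    refine UD1.hom_ext_of_surjective (u i ≫ 𝒰.f i) (q i) _ _ ?_ ?_
    · rw [hτ1, Category.id_comp]
    · rw [hτ2, EffDesc.tmap_id, Category.id_comp, Category.comp_id]
  have hcomp : ∀ {i j k : 𝒰.I₀} (hij : i ⟶ j) (hjk : j ⟶ k), τ (hij ≫ hjk) = τ hij ≫ τ hjk := by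
    intro i j k hij hjk
    refine UD1.hom_ext_of_surjective (u k ≫ 𝒰.f k) (q i) _ _ ?_ ?_
    · rw [hτ1, Category.assoc, hτ1, hτ1]
    · rw [hτ2, EffDesc.tmap_comp, Category.assoc, ← hτ2 hjk, ← Category.assoc, ← hτ2 hij,
        Category.assoc]
  have hequi : ∀ {i j : 𝒰.I₀} (hij : i ⟶ j), IsPullback (τ hij) (u i) (u j) (𝒰.trans hij) := by
    intro i j hij
    haveI : IsOpenImmersion (𝒰.trans hij) := 𝒰.property_trans hij
    suffices hk : IsIso (pullback.lift (τ hij) (u i) (hnat hij)) from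
      IsPullback.of_iso_pullback ⟨hnat hij⟩ (asIso (pullback.lift (τ hij) (u i) (hnat hij)))
        (pullback.lift_fst _ _ _) (pullback.lift_snd _ _ _)
    have big : IsPullback (EffDesc.tmap 𝒰 (D.obj.hom ≫ p) hij ≫ pullback.fst (D.obj.hom ≫ p) (𝒰.f j))
        (pullback.snd (D.obj.hom ≫ p) (𝒰.f i)) (D.obj.hom ≫ p) (𝒰.trans hij ≫ 𝒰.f j) := by
      rw [EffDesc.tmap_fst, 𝒰.trans_map]; exact IsPullback.of_hasPullback _ _
    have left : IsPullback (EffDesc.tmap 𝒰 (D.obj.hom ≫ p) hij) (pullback.snd (D.obj.hom ≫ p) (𝒰.f i))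
        (pullback.snd (D.obj.hom ≫ p) (𝒰.f j)) (𝒰.trans hij) :=
      IsPullback.of_right big (EffDesc.tmap_snd 𝒰 (D.obj.hom ≫ p) hij) (IsPullback.of_hasPullback _ _)
    have hc : (EffDesc.tmap 𝒰 (D.obj.hom ≫ p) hij ≫ q j) ≫ u j =
        pullback.snd (D.obj.hom ≫ p) (𝒰.f i) ≫ 𝒰.trans hij := by
      rw [Category.assoc, hqu, EffDesc.tmap_snd]
    have top : IsPullback (EffDesc.tmap 𝒰 (D.obj.hom ≫ p) hij)
        (pullback.lift (EffDesc.tmap 𝒰 (D.obj.hom ≫ p) hij ≫ q j) (pullback.snd (D.obj.hom ≫ p) (𝒰.f i)) hc)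
        (q j) (pullback.fst (u j) (𝒰.trans hij)) := by
      refine IsPullback.of_bot ?_ (pullback.lift_fst _ _ _).symm
        (IsPullback.of_hasPullback (u j) (𝒰.trans hij))
      rw [pullback.lift_snd, hqu]
      exact left
    have sq2 : IsPullback (pullback.fst (D.obj.hom ≫ p) (𝒰.f i) ≫ D.obj.hom)
        (pullback.lift (EffDesc.tmap 𝒰 (D.obj.hom ≫ p) hij ≫ q j) (pullback.snd (D.obj.hom ≫ p) (𝒰.f i)) hc) p
        (pullback.fst (u j) (𝒰.trans hij) ≫ u j ≫ 𝒰.f j) := by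
      have := top.paste_horiz (hpb j)
      rw [← Category.assoc, EffDesc.tmap_fst] at this
      exact this
    refine isIso_of_two_quot_et hp (hpb i) sq2 _ ?_ ?_
    · apply pullback.hom_ext
      · rw [Category.assoc, pullback.lift_fst, pullback.lift_fst, hτ2]
      · rw [Category.assoc, pullback.lift_snd, pullback.lift_snd, hqu]
    · rw [← Category.assoc, pullback.lift_fst, ← Category.assoc, hnat, Category.assoc, 𝒰.trans_map]
  obtain ⟨U', u', q', hPB, hι, hP⟩ :=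
    glue_quot_abs D.obj.hom p 𝒰 U u q hpb (fun {i j} hij => τ hij) (fun {i j} hij => hτ2 hij)
      (fun {i j} hij => hnat hij) hid (fun {i j k} hij hjk => hcomp hij hjk)
      (fun {i j} hij => hequi hij)
  exact ⟨U', u', q', hPB, isInv_of_local D 𝒰 q' U q hinv hι, hP @Etale (fun i => inferInstance)⟩

/-- étale local quotients over the members of a basis of the base glue -/
theorem exists_quot_of_local_basis_et (hp : SGA1.UnivSubmersive p) (B : Set S.Opens)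
    (hB : TopologicalSpace.Opens.IsBasis B) (hloc : ∀ W : B, LocalQuotE D W.1.ι) :
    ∃ (U : Scheme.{u}) (u : U ⟶ S) (q : D.obj.left ⟶ U), IsPullback D.obj.hom q p u ∧
      EffDesc.IsInv D q ∧ Etale u := by
  have : Small.{u} (basisCover S B hB).I₀ := inferInstanceAs (Small.{u} B)
  exact exists_quot_of_local_cover_et D hp (basisCover S B hB) hloc

end Groth.Agent.Lib.Helper28.EffDescE
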