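import Groth.Agent.Lib.Helper16.DescPt
import Groth.Agent.Lib.Helper28.EffDesc.FppfLqf
import Groth.Agent.Lib.Helper28.EffDescE.GlueE

/-!
# Effective descent of étale schemes along universally submersive morphisms (helper28): effectivity is local
on the base

* `canPullPtEquiv`: base change of canonical descent data.
* `etale_effective_iff_openCover`: a descent datum of étale schemes relative to a universally submersive
  morphism is effective (among étale schemes) iff it is so over the members of an open cover of the base.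
-/

set_option autoImplicit false
set_option maxHeartbeats 1600000
set_option backward.isDefEq.respectTransparency false
set_option backward.isDefEq.respectTransparency.types false
universe w' w u
open CategoryTheory CategoryTheory.Limits AlgebraicGeometry

namespace Groth.Agent.Lib.Helper28.EffDescE

open Desc Groth.Agent.Lib.Helper16

section CanPull

variable {S : Scheme.{u}} {ι : Type w} {X : ι → Scheme.{u}} {f : ∀ i, X i ⟶ S}
  {S' : Scheme.{u}} {ι' : Type w'} {X' : ι' → Scheme.{u}} {f' : ∀ j, X' j ⟶ S'}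
  {α : ι' → ι} {p : S' ⟶ S} {p' : ∀ j, X' j ⟶ X (α j)} (w : ∀ j, p' j ≫ f (α j) = f' j ≫ p)
  (U : Over S) (U' : Over S') (r : U'.left ⟶ U.left) (hsq : IsPullback r U'.hom U.hom p)

include w hsq in
theorem cp_cond1 (j : ι') {T : Scheme.{u}} (v1 : T ⟶ pullback (f' j) U'.hom) :
    ((v1 ≫ pullback.fst (f' j) U'.hom) ≫ p' j) ≫ f (α j) =
      (v1 ≫ pullback.snd (f' j) U'.hom ≫ r) ≫ U.hom := by
  have h1 : pullback.fst (f' j) U'.hom ≫ f' j = pullback.snd (f' j) U'.hom ≫ U'.hom :=
    pullback.condition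
  have h2 : r ≫ U.hom = U'.hom ≫ p := hsq.w
  simp only [Category.assoc]
  rw [w, reassoc_of% h1, h2]

include w in
theorem cp_cond2 (j : ι') {T : Scheme.{u}} (x : T ⟶ X' j) (t1 : T ⟶ pullback (f (α j)) U.hom)
    (e : t1 ≫ pullback.fst (f (α j)) U.hom = x ≫ p' j) :
    (t1 ≫ pullback.snd (f (α j)) U.hom) ≫ U.hom = (x ≫ f' j) ≫ p := by
  rw [Category.assoc, ← pullback.condition, ← Category.assoc, e, Category.assoc, w, Category.assoc]

/-- forward map on points -/
noncomputable def cpTo (j : ι') {T : Scheme.{u}} (x : T ⟶ X' j)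
    (v : Lifts (((toDDFam f').obj U').obj j) x) : Lifts (((toDDFam f).obj U).obj (α j)) (x ≫ p' j) :=
  ⟨pullback.lift (x ≫ p' j) (v.1 ≫ pullback.snd (f' j) U'.hom ≫ r)
    ((congrArg (fun t => (t ≫ p' j) ≫ f (α j)) v.2).symm.trans (cp_cond1 w U U' r hsq j v.1)),
    pullback.lift_fst _ _ _⟩

theorem cpTo_val (j : ι') {T : Scheme.{u}} (x : T ⟶ X' j) (v : Lifts (((toDDFam f').obj U').obj j) x) :
    (cpTo w U U' r hsq j x v).1 = pullback.lift (x ≫ p' j) (v.1 ≫ pullback.snd (f' j) U'.hom ≫ r)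
      ((congrArg (fun t => (t ≫ p' j) ≫ f (α j)) v.2).symm.trans (cp_cond1 w U U' r hsq j v.1)) := rfl

/-- backward map on points -/
noncomputable def cpInv (j : ι') {T : Scheme.{u}} (x : T ⟶ X' j)
    (t : Lifts (((toDDFam f).obj U).obj (α j)) (x ≫ p' j)) : Lifts (((toDDFam f').obj U').obj j) x :=
  ⟨pullback.lift x (hsq.lift (t.1 ≫ pullback.snd (f (α j)) U.hom) (x ≫ f' j)
      (cp_cond2 w U j x t.1 t.2)) (hsq.lift_snd _ _ _).symm,
    pullback.lift_fst _ _ _⟩

theorem cpInv_val (j : ι') {T : Scheme.{u}} (x : T ⟶ X' j)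
    (t : Lifts (((toDDFam f).obj U).obj (α j)) (x ≫ p' j)) :
    (cpInv w U U' r hsq j x t).1 = pullback.lift x (hsq.lift (t.1 ≫ pullback.snd (f (α j)) U.hom)
      (x ≫ f' j) (cp_cond2 w U j x t.1 t.2)) (hsq.lift_snd _ _ _).symm := rfl

/-- the bijection on points -/
noncomputable def cpE (j : ι') {T : Scheme.{u}} (x : T ⟶ X' j) :
    Lifts (((toDDFam f').obj U').obj j) x ≃ Lifts (((toDDFam f).obj U).obj (α j)) (x ≫ p' j) where
  toFun := cpTo w U U' r hsq j x
  invFun := cpInv w U U' r hsq j x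
  left_inv v := by
    apply Subtype.ext
    rw [cpInv_val]
    apply pullback.hom_ext
    · exact (pullback.lift_fst _ _ _).trans v.2.symm
    · refine (pullback.lift_snd _ _ _).trans ?_
      apply hsq.hom_ext
      · rw [hsq.lift_fst, Category.assoc, cpTo_val]
        exact pullback.lift_snd _ _ _
      · rw [hsq.lift_snd, Category.assoc, ← pullback.condition, ← Category.assoc]
        exact congrArg (· ≫ f' j) v.2.symm
  right_inv t := by
    apply Subtype.ext
    rw [cpTo_val]
    apply pullback.hom_ext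
    · exact (pullback.lift_fst _ _ _).trans t.2.symm
    · refine (pullback.lift_snd _ _ _).trans ?_
      rw [cpInv_val, ← Category.assoc, pullback.lift_snd, hsq.lift_fst]

theorem cpE_apply (j : ι') {T : Scheme.{u}} (x : T ⟶ X' j) (v : Lifts (((toDDFam f').obj U').obj j) x) :
    cpE w U U' r hsq j x v = cpTo w U U' r hsq j x v := rfl

theorem pullLPE_symm_val (D : SchDDFam f) (j : ι') {T : Scheme.{u}} (x : T ⟶ X' j)
    (t : Lifts (D.obj (α j)) (x ≫ p' j)) :
    ((pullLPE w D j x).symm t).1 = pullback.lift t.1 x t.2 := rfl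

/-- base change of canonical descent data: the bijections on points -/
noncomputable def canPullPtEquiv :
    PtEquiv ((toDDFam f').obj U') ((pullDDFam w).obj ((toDDFam f).obj U)) where
  e j T x := (cpE w U U' r hsq j x).trans (pullLPE w ((toDDFam f).obj U) j x).symm
  natural j T T' g x y hy v v' hv' := by
    simp only [Equiv.trans_apply]
    rw [pullLPE_symm_val, pullLPE_symm_val]
    apply pullback.hom_ext
    · rw [pullback.lift_fst, Category.assoc, pullback.lift_fst, cpE_apply, cpE_apply, cpTo_val,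
        cpTo_val]
      apply pullback.hom_ext
      · rw [pullback.lift_fst, Category.assoc, pullback.lift_fst, ← Category.assoc, hy]
      · rw [pullback.lift_snd, Category.assoc, pullback.lift_snd, hv', Category.assoc]
    · rw [pullback.lift_snd, Category.assoc, pullback.lift_snd, hy]
  comm T i j x₀ x₁ h v := by
    simp only [Equiv.trans_apply, pull_φ, Equiv.apply_symm_apply]
    refine congrArg (pullLPE w ((toDDFam f).obj U) j x₁).symm ?_
    apply Subtype.ext
    rw [cpE_apply, cpE_apply, cpTo_val]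
    show (canMapFam f U (x₀ ≫ p' i) (x₁ ≫ p' j) (pull_compat w x₀ x₁ h) (cpTo w U U' r hsq i x₀ v)).1 = _
    rw [canMapFam_val]
    apply pullback.hom_ext
    · rw [pullback.lift_fst, pullback.lift_fst]
    · rw [pullback.lift_snd, pullback.lift_snd, cpTo_val, pullback.lift_snd]
      have e : (((toDDFam f').obj U').φ x₀ x₁ h v).1 ≫ pullback.snd (f' j) U'.hom =
          v.1 ≫ pullback.snd (f' i) U'.hom := by
        show (canMapFam f' U' x₀ x₁ h v).1 ≫ _ = _
        rw [canMapFam_val]
        exact pullback.lift_snd _ _ _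
      exact (Category.assoc _ _ _).symm.trans ((congrArg (· ≫ r) e.symm).trans (Category.assoc _ _ _))

end CanPull

section Main

open Groth.Agent.Lib.Helper28.EffDescQ

theorem etale_effective_iff_openCover {S S' : Scheme.{u}} (g : S' ⟶ S) (hg : SGA1.UnivSubmersive g)
    (D : Desc.SchDDFam (fun _ : PUnit.{1} => g))
    {ι : Type u} (V : ι → S.Opens) (hV : ⨆ i, V i = ⊤) :
    (∃ U : Over S, Etale U.hom ∧ Nonempty ((Desc.toDDFam (fun _ : PUnit.{1} => g)).obj U ≅ D)) ↔
      ∀ i : ι, (∃ U : Over (V i : Scheme.{u}), Etale U.hom ∧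
        Nonempty ((Desc.toDDFam (fun _ : PUnit.{1} => pullback.snd g (V i).ι)).obj U ≅
          (Desc.pullDDFam (f := fun _ : PUnit.{1} => g) (f' := fun _ : PUnit.{1} => pullback.snd g (V i).ι)
        (α := id) (p := (V i).ι) (p' := fun _ => pullback.fst g (V i).ι) (fun _ => pullback.condition)).obj D)) := by
  constructor
  · rintro ⟨U, hU, ⟨e⟩⟩ i
    have := hU
    refine ⟨Over.mk (pullback.snd U.hom (V i).ι), inferInstanceAs (Etale (pullback.snd U.hom (V i).ι)), ⟨?_⟩⟩
    exact (canPullPtEquiv (f := fun _ : PUnit.{1} => g) (f' := fun _ : PUnit.{1} => pullback.snd g (V i).ι)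
      (α := id) (p := (V i).ι) (p' := fun _ => pullback.fst g (V i).ι) (fun _ => pullback.condition) U
      (Over.mk (pullback.snd U.hom (V i).ι)) (pullback.fst U.hom (V i).ι)
      (IsPullback.of_hasPullback _ _)).toIso ≪≫ (Desc.pullDDFam _).mapIso e
  · intro h
    have hB : TopologicalSpace.Opens.IsBasis {W : S.Opens | ∃ i, W ≤ V i} := by
      rw [TopologicalSpace.Opens.isBasis_iff_nbhd]
      intro O x hx
      have hx' : x ∈ ⨆ i, V i := by rw [hV]; trivial
      obtain ⟨i, hi⟩ := TopologicalSpace.Opens.mem_iSup.mp hx'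
      exact ⟨V i ⊓ O, ⟨i, inf_le_left⟩, ⟨hi, hx⟩, inf_le_right⟩
    have hloc : ∀ W : {W : S.Opens | ∃ i, W ≤ V i},
        LocalQuotE ((SchDDFam.toSchDD g).obj D) W.1.ι := by
      rintro ⟨W, i, hWi⟩
      obtain ⟨Ui, hUi, ⟨ei⟩⟩ := h i
      have := hUi
      have w' : pullback.snd g (V i).ι ≫ (V i).ι = pullback.fst g (V i).ι ≫ g := pullback.condition.symm
      have e' : (toDD (pullback.snd g (V i).ι)).obj Ui ≅
          EffDesc.pullDD (pullback.fst g (V i).ι) (V i).ι w' ((SchDDFam.toSchDD g).obj D) :=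
        (SchDDFam.toSchDD (pullback.snd g (V i).ι)).mapIso ei
      obtain ⟨q', hpb', hinv'⟩ := EffDesc.quot_of_effective _ Ui e'
      obtain ⟨q₁, hpb₁, hinv₁⟩ := transfer_iso ((SchDDFam.toSchDD g).obj D) (V i).ι w' Ui.hom q' hpb' hinv'
      obtain ⟨q₂, hpb₂, hinv₂⟩ := restrict_quot ((SchDDFam.toSchDD g).obj D) (V i).ι (S.homOfLE hWi) W.ι
        (S.homOfLE_ι hWi) Ui.hom q₁ hpb₁ hinv₁
      exact ⟨_, pullback.snd Ui.hom (S.homOfLE hWi), q₂, hpb₂, hinv₂, inferInstance⟩
    obtain ⟨U', u', q', hPB, hinv, het⟩ :=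
      exists_quot_of_local_basis_et ((SchDDFam.toSchDD g).obj D) hg _ hB hloc
    obtain ⟨e⟩ := EffDesc.effective_of_quot ((SchDDFam.toSchDD g).obj D) u' q' hPB hinv
    refine ⟨Over.mk u', het, ⟨?_⟩⟩
    exact ((SchDDFam.oneEquiv g).unitIso.app ((Desc.toDDFam (fun _ : PUnit.{1} => g)).obj (Over.mk u'))) ≪≫
      (SchDDFam.ofSchDD g).mapIso e ≪≫ ((SchDDFam.oneEquiv g).unitIso.app D).symm

end Main

end Groth.Agent.Lib.Helper28.EffDescE
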