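import Groth.Agent.Lib.Helper28.EffDescE.MainE

/-!
# Effective descent of étale schemes (helper28): local quotients versus effectivity of the base-changed datum

* `untransfer`: a local quotient over `j` is a quotient of the base change of `D` along `j`.
* `fam_iff_localQuotE`: the base change of `D` along a monomorphism `j` is the canonical datum of an étale scheme
  iff `D` has an étale local quotient over `j`.
-/

set_option autoImplicit false
set_option maxHeartbeats 1600000
set_option backward.isDefEq.respectTransparency false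
set_option backward.isDefEq.respectTransparency.types false
universe u
open CategoryTheory CategoryTheory.Limits AlgebraicGeometry

namespace Groth.Agent.Lib.Helper28.EffDescE

open Desc

section Untransfer

variable {X S : Scheme.{u}} {p : X ⟶ S} (D : SchDD p)

/-- a local quotient over `j` is a quotient of the base change of `D` along `j` -/
theorem untransfer {S₁ : Scheme.{u}} (j : S₁ ⟶ S) [Mono j]
    (w : pullback.snd p j ≫ j = pullback.fst p j ≫ p)
    {U₁ : Scheme.{u}} (u₁ : U₁ ⟶ S₁) (q₁ : pullback (D.obj.hom ≫ p) j ⟶ U₁)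
    (hpb : IsPullback (pullback.fst (D.obj.hom ≫ p) j ≫ D.obj.hom) q₁ p (u₁ ≫ j))
    (hinv : EffDesc.IsLocInv D j q₁) :
    ∃ q' : (EffDesc.pullDD (pullback.fst p j) j w D).obj.left ⟶ U₁,
      IsPullback (EffDesc.pullDD (pullback.fst p j) j w D).obj.hom q' (pullback.snd p j) u₁ ∧
      EffDesc.IsInv (EffDesc.pullDD (pullback.fst p j) j w D) q' := by
  have hqu : q₁ ≫ u₁ = pullback.snd (D.obj.hom ≫ p) j := by
    rw [← cancel_mono j, Category.assoc, ← hpb.w, Category.assoc, pullback.condition]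
  obtain ⟨b₁, hb1, hb2, hR⟩ : ∃ b₁ : pullback (D.obj.hom ≫ p) j ⟶ pullback p j,
      b₁ ≫ pullback.fst p j = pullback.fst (D.obj.hom ≫ p) j ≫ D.obj.hom ∧
      b₁ ≫ pullback.snd p j = pullback.snd (D.obj.hom ≫ p) j ∧
      IsPullback (pullback.fst (D.obj.hom ≫ p) j) b₁ D.obj.hom (pullback.fst p j) :=
    ⟨_, pullback.lift_fst _ _ _, pullback.lift_snd _ _ _, EffDesc.isPullback_lift_of_comp D.obj.hom p j⟩
  obtain ⟨ε, hε1, hε2⟩ : ∃ ε : pullback (D.obj.hom ≫ p) j ≅ pullback D.obj.hom (pullback.fst p j),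
      ε.hom ≫ pullback.fst D.obj.hom (pullback.fst p j) = pullback.fst (D.obj.hom ≫ p) j ∧
      ε.hom ≫ pullback.snd D.obj.hom (pullback.fst p j) = b₁ :=
    ⟨hR.isoPullback, hR.isoPullback_hom_fst, hR.isoPullback_hom_snd⟩
  have hε1' : ε.inv ≫ pullback.fst (D.obj.hom ≫ p) j = pullback.fst D.obj.hom (pullback.fst p j) := by
    rw [← hε1, Iso.inv_hom_id_assoc]
  have hε2' : ε.inv ≫ b₁ = pullback.snd D.obj.hom (pullback.fst p j) := by
    rw [← hε2, Iso.inv_hom_id_assoc]
  have hε3' : ε.inv ≫ pullback.snd (D.obj.hom ≫ p) j =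
      pullback.snd D.obj.hom (pullback.fst p j) ≫ pullback.snd p j := by
    rw [← hb2, ← Category.assoc, hε2']
  refine ⟨ε.inv ≫ q₁, ?_, ?_⟩
  · change IsPullback (pullback.snd D.obj.hom (pullback.fst p j)) (ε.inv ≫ q₁) (pullback.snd p j) u₁
    have L : IsPullback ε.inv (pullback.snd D.obj.hom (pullback.fst p j) ≫ pullback.fst p j)
        (pullback.fst (D.obj.hom ≫ p) j ≫ D.obj.hom) (𝟙 X) :=
      IsPullback.of_horiz_isIso ⟨by
        rw [Category.comp_id, ← Category.assoc, hε1', pullback.condition]⟩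
    have outer := L.paste_horiz hpb.flip
    rw [Category.id_comp] at outer
    refine (IsPullback.of_bot outer ?_ (IsPullback.of_hasPullback p j).flip).flip
    rw [Category.assoc, hqu, hε3']
  · intro T y₀ y₁ h' v'
    have hv'2 : v'.1 ≫ pullback.snd D.obj.hom (pullback.fst p j) = y₀ := v'.2
    have hφ2 : ((EffDesc.pullDD (pullback.fst p j) j w D).φ y₀ y₁ h' v').1 ≫
        pullback.snd D.obj.hom (pullback.fst p j) = y₁ :=
      EffDesc.phi_hom (EffDesc.pullDD (pullback.fst p j) j w D) y₀ y₁ h' v'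
    rw [← Category.assoc, ← Category.assoc]
    refine hinv (y₀ ≫ pullback.fst p j) (y₁ ≫ pullback.fst p j)
      (EffDesc.pull_cond (pullback.fst p j) j w y₀ y₁ h')
      (EffDesc.liftsEquiv (pullback.fst p j) D y₀ v') (v'.1 ≫ ε.inv)
      (((EffDesc.pullDD (pullback.fst p j) j w D).φ y₀ y₁ h' v').1 ≫ ε.inv) ?_ ?_ ?_
    · rw [Category.assoc, hε1']; rfl
    · rw [Category.assoc, hε1']
      exact EffDesc.pullDD_phi_fst (pullback.fst p j) j w D y₀ y₁ h' v'
    · rw [Category.assoc, Category.assoc, hε3', ← Category.assoc, ← Category.assoc, hv'2, hφ2]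
      exact h'

end Untransfer

section Fam

variable {S S' S₁ : Scheme.{u}} (g : S' ⟶ S) (D : Desc.SchDDFam (fun _ : PUnit.{1} => g))

/-- the base change of `D` along `j` is the canonical datum of an étale scheme if `D` has an étale local
quotient over `j` -/
theorem fam_of_localQuotE (j : S₁ ⟶ S) [Mono j] (h : LocalQuotE ((SchDDFam.toSchDD g).obj D) j) :
    ∃ U : Over S₁, Etale U.hom ∧
      Nonempty ((Desc.toDDFam (fun _ : PUnit.{1} => pullback.snd g j)).obj U ≅
        (Desc.pullDDFam (f := fun _ : PUnit.{1} => g) (f' := fun _ : PUnit.{1} => pullback.snd g j)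
          (α := id) (p := j) (p' := fun _ => pullback.fst g j) (fun _ => pullback.condition)).obj D) := by
  obtain ⟨U₁, u₁, q₁, hpb, hinv, het⟩ := h
  have w' : pullback.snd g j ≫ j = pullback.fst g j ≫ g := pullback.condition.symm
  obtain ⟨q', hpb', hinv'⟩ := untransfer ((SchDDFam.toSchDD g).obj D) j w' u₁ q₁ hpb hinv
  obtain ⟨e⟩ := EffDesc.effective_of_quot
    (EffDesc.pullDD (pullback.fst g j) j w' ((SchDDFam.toSchDD g).obj D)) u₁ q' hpb' hinv'
  have e' : (toDD (pullback.snd g j)).obj (Over.mk u₁) ≅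
      (SchDDFam.toSchDD (pullback.snd g j)).obj
        ((Desc.pullDDFam (f := fun _ : PUnit.{1} => g) (f' := fun _ : PUnit.{1} => pullback.snd g j)
          (α := id) (p := j) (p' := fun _ => pullback.fst g j) (fun _ => pullback.condition)).obj D) := e
  refine ⟨Over.mk u₁, het, ⟨?_⟩⟩
  exact ((SchDDFam.oneEquiv (pullback.snd g j)).unitIso.app
      ((Desc.toDDFam (fun _ : PUnit.{1} => pullback.snd g j)).obj (Over.mk u₁))) ≪≫
    (SchDDFam.ofSchDD (pullback.snd g j)).mapIso e' ≪≫
    ((SchDDFam.oneEquiv (pullback.snd g j)).unitIso.app _).symm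

/-- `D` has an étale local quotient over `j` if the base change of `D` along `j` is the canonical datum of an
étale scheme -/
theorem localQuotE_of_fam (j : S₁ ⟶ S)
    (h : ∃ U : Over S₁, Etale U.hom ∧
      Nonempty ((Desc.toDDFam (fun _ : PUnit.{1} => pullback.snd g j)).obj U ≅
        (Desc.pullDDFam (f := fun _ : PUnit.{1} => g) (f' := fun _ : PUnit.{1} => pullback.snd g j)
          (α := id) (p := j) (p' := fun _ => pullback.fst g j) (fun _ => pullback.condition)).obj D)) :
    LocalQuotE ((SchDDFam.toSchDD g).obj D) j := by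
  obtain ⟨Ui, hUi, ⟨ei⟩⟩ := h
  have w' : pullback.snd g j ≫ j = pullback.fst g j ≫ g := pullback.condition.symm
  have e' : (toDD (pullback.snd g j)).obj Ui ≅
      EffDesc.pullDD (pullback.fst g j) j w' ((SchDDFam.toSchDD g).obj D) :=
    (SchDDFam.toSchDD (pullback.snd g j)).mapIso ei
  obtain ⟨q', hpb', hinv'⟩ := EffDesc.quot_of_effective _ Ui e'
  obtain ⟨q₁, hpb₁, hinv₁⟩ := transfer_iso ((SchDDFam.toSchDD g).obj D) j w' Ui.hom q' hpb' hinv'
  exact ⟨_, Ui.hom, q₁, hpb₁, hinv₁, hUi⟩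

/-- restriction of étale local quotients -/
theorem LocalQuotE.restrict {X S : Scheme.{u}} {p : X ⟶ S} {D : SchDD p} {S₁ S₂ : Scheme.{u}}
    {j : S₁ ⟶ S} [Mono j] (h : LocalQuotE D j) (k : S₂ ⟶ S₁) (j' : S₂ ⟶ S) (hj' : k ≫ j = j') :
    LocalQuotE D j' := by
  obtain ⟨U₁, u₁, q₁, hpb, hinv, het⟩ := h
  obtain ⟨q₂, hpb₂, hinv₂⟩ := restrict_quot D j k j' hj' u₁ q₁ hpb hinv
  exact ⟨_, pullback.snd u₁ k, q₂, hpb₂, hinv₂, inferInstance⟩

end Fam

end Groth.Agent.Lib.Helper28.EffDescE
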