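import Groth.Agent.S5941
import Groth.Agent.Lib.Helper12.StalkLim
import Groth.Agent.Lib.Helper12.FpDesc
import Groth.Agent.Lib.Helper28.EffDescE.ToIso

/-!
# Spreading out étale local quotients from a stalk (helper28), part 1: the étale scheme

* `compact_qs_of_surjective`: the target of a surjective quasi-compact morphism from a qcqs scheme is qcqs.
* `exists_etale_stage`: an étale qcqs scheme over `Spec 𝒪_{S,a}` is the base change of an étale qcqs scheme
  over an affine open neighbourhood of `a`.
-/

set_option autoImplicit false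
set_option maxHeartbeats 1600000
set_option backward.isDefEq.respectTransparency false
set_option backward.isDefEq.respectTransparency.types false
universe u
open CategoryTheory CategoryTheory.Limits AlgebraicGeometry

namespace Groth.Agent.Lib.Helper28.EffDescE

open Groth.Agent.Lib.Helper12 Groth.Agent.Lib.Helper12.StalkLim

theorem compactSpace_of_surjective {E U : Scheme.{u}} (q : E ⟶ U) [Surjective q] [CompactSpace E] :
    CompactSpace U := by
  refine ⟨?_⟩
  have h : (Set.univ : Set U) = q '' Set.univ := by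
    rw [Set.image_univ]; exact (Set.range_eq_univ.mpr q.surjective).symm
  rw [h]
  exact isCompact_univ.image q.continuous

theorem quasiSeparatedSpace_of_surjective {E U : Scheme.{u}} (q : E ⟶ U) [Surjective q] [QuasiCompact q]
    [QuasiSeparatedSpace E] : QuasiSeparatedSpace U := by
  refine ⟨fun A B hAo hAc hBo hBc => ?_⟩
  have h : A ∩ B = q '' (q ⁻¹' A ∩ q ⁻¹' B) := by
    rw [← Set.preimage_inter, Set.image_preimage_eq _ q.surjective]
  rw [h]
  refine IsCompact.image ?_ q.continuous
  exact QuasiSeparatedSpace.inter_isCompact _ _ (hAo.preimage q.continuous)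
    (QuasiCompact.isCompact_preimage (f := q) A hAo hAc) (hBo.preimage q.continuous)
    (QuasiCompact.isCompact_preimage (f := q) B hBo hBc)

/-- an étale qcqs scheme over `Spec 𝒪_{S,a}` comes from an étale qcqs scheme over an affine neighbourhood -/
theorem exists_etale_stage {S : Scheme.{u}} (a : S) {Ua : Scheme.{u}}
    (ua : Ua ⟶ Spec (S.presheaf.stalk a)) [Etale ua] [QuasiCompact ua] [QuasiSeparated ua] :
    ∃ (W : AffNhd S a) (U : Scheme.{u}) (u : U ⟶ (W.U : Scheme.{u})) (g : Ua ⟶ U),
      Etale u ∧ QuasiCompact u ∧ QuasiSeparated u ∧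
        IsPullback g ua u (W.U.fromSpecStalkOfMem a W.mem) := by
  obtain ⟨W₀, U₀, h₀, g₀, hlfp, hqc, hqs, hsq⟩ :=
    FpDesc.descends_of_fp (D := StalkLim.diag S a) (c := StalkLim.cone S a) (isLimitCone S a) ua
  haveI := hlfp
  haveI := hqc
  haveI := hqs
  haveI : CompactSpace U₀ := QuasiCompact.compactSpace_of_compactSpace h₀
  have hY : IsPullback ((StalkLim.cone S a).π.app W₀) (𝟙 (StalkLim.cone S a).pt)
      (𝟙 ((StalkLim.diag S a).obj W₀)) ((StalkLim.cone S a).π.app W₀) :=
    IsPullback.id_vert ((StalkLim.cone S a).π.app W₀)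
  have hX : IsPullback g₀ ua h₀ ((StalkLim.cone S a).π.app W₀) := hsq
  haveI : LocallyOfFinitePresentation (h₀ ≫ 𝟙 ((StalkLim.diag S a).obj W₀)) := by
    rw [Category.comp_id]; infer_instance
  obtain ⟨j, φ, Xj, Yj, fj, gj, pY, pX, h1, h2, het⟩ :=
    (Groth.Agent.S5941.result (StalkLim.diag S a) (StalkLim.cone S a) (isLimitCone S a) W₀ h₀
      (𝟙 ((StalkLim.diag S a).obj W₀)) ua (𝟙 (StalkLim.cone S a).pt)
      ((StalkLim.cone S a).π.app W₀) g₀ hY hX).mp inferInstance
  haveI := het
  haveI : IsIso gj := h1.isIso_snd_of_isIso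
  have sq1 : IsPullback pX (fj ≫ gj) h₀ ((StalkLim.diag S a).map φ) := by
    have := h2.paste_vert h1
    rwa [Category.comp_id] at this
  have hw : g₀ ≫ h₀ = (ua ≫ (StalkLim.cone S a).π.app j) ≫ (StalkLim.diag S a).map φ := by
    rw [Category.assoc, (StalkLim.cone S a).w φ]; exact hsq.w
  have sq2 : IsPullback (sq1.lift g₀ (ua ≫ (StalkLim.cone S a).π.app j) hw) ua (fj ≫ gj)
      ((StalkLim.cone S a).π.app j) := by
    refine IsPullback.of_right ?_ (sq1.lift_snd _ _ _) sq1
    rw [sq1.lift_fst, (StalkLim.cone S a).w φ]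
    exact hsq
  exact ⟨j, Xj, fj ≫ gj, sq1.lift g₀ (ua ≫ (StalkLim.cone S a).π.app j) hw, inferInstance,
    MorphismProperty.of_isPullback (P := @QuasiCompact) sq1 inferInstance,
    MorphismProperty.of_isPullback (P := @QuasiSeparated) sq1 inferInstance, sq2⟩

end Groth.Agent.Lib.Helper28.EffDescE
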