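import Groth.Agent.Lib.Helper12.FpLimit
import Groth.Agent.Lib.Helper28.EffDescE.Spread1

/-!
# Spreading out étale local quotients from a stalk (helper28), part 2: base-changed diagrams and spreading morphisms
-/

set_option autoImplicit false
set_option maxHeartbeats 1600000
set_option backward.isDefEq.respectTransparency false
set_option backward.isDefEq.respectTransparency.types false
universe u
open CategoryTheory CategoryTheory.Limits AlgebraicGeometry

namespace Groth.Agent.Lib.Helper28.EffDescE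

open Groth.Agent.Lib.Helper12 Groth.Agent.Lib.Helper12.StalkLim

section Diagrams

variable {S : Scheme.{u}} (a : S)

/-- the structure maps of the affine open neighbourhoods of `a` -/
noncomputable def tauι : StalkLim.diag S a ⟶ (Functor.const (AffNhd S a)).obj S where
  app W := W.U.ι
  naturality W W' f := by
    show S.homOfLE (AffNhd.le_iff.mp f.le) ≫ W'.U.ι = W.U.ι ≫ 𝟙 _
    rw [Category.comp_id, Scheme.homOfLE_ι]

theorem tauι_app (W : AffNhd S a) : (tauι a).app W = W.U.ι := rfl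

theorem hσ (W : AffNhd S a) : (StalkLim.cone S a).π.app W ≫ (tauι a).app W = S.fromSpecStalk a :=
  Scheme.Opens.fromSpecStalkOfMem_ι _ _ _

variable {Y : Scheme.{u}} (f : Y ⟶ S)

/-- the diagram `W ↦ Y ×_S W` -/
noncomputable abbrev fbD : AffNhd S a ⥤ Scheme.{u} := FpLimit.fbDiagram (StalkLim.diag S a) (tauι a) f

/-- the cone with vertex `Y ×_S Spec 𝒪_{S,a}` -/
noncomputable abbrev fbC : Cone (fbD a f) :=
  FpLimit.fbCone f (StalkLim.cone S a) (S.fromSpecStalk a) (hσ a)

noncomputable def fbCLim : IsLimit (fbC a f) :=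
  FpLimit.isLimitFbCone f (StalkLim.cone S a) (isLimitCone S a) (S.fromSpecStalk a) (hσ a)

/-- the canonical map `Y ×_S Spec 𝒪_{S,a} ⟶ Y ×_S W` -/
noncomputable def stalkTo (W : AffNhd S a) : pullback f (S.fromSpecStalk a) ⟶ pullback f W.U.ι :=
  (fbC a f).π.app W

theorem stalkTo_fst (W : AffNhd S a) :
    stalkTo a f W ≫ pullback.fst f W.U.ι = pullback.fst f (S.fromSpecStalk a) :=
  FpLimit.fbCone_π_fst f (StalkLim.cone S a) (S.fromSpecStalk a) (hσ a) W

theorem stalkTo_snd (W : AffNhd S a) :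
    stalkTo a f W ≫ pullback.snd f W.U.ι =
      pullback.snd f (S.fromSpecStalk a) ≫ W.U.fromSpecStalkOfMem a W.mem :=
  FpLimit.fbCone_π_snd f (StalkLim.cone S a) (S.fromSpecStalk a) (hσ a) W

/-- the transition maps `Y ×_S W' ⟶ Y ×_S W` -/
noncomputable def trans {W' W : AffNhd S a} (h : W'.U ≤ W.U) : pullback f W'.U.ι ⟶ pullback f W.U.ι :=
  (fbD a f).map (homOfLE (AffNhd.le_iff.mpr h))

theorem trans_fst {W' W : AffNhd S a} (h : W'.U ≤ W.U) :
    trans a f h ≫ pullback.fst f W.U.ι = pullback.fst f W'.U.ι :=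
  FpLimit.fbDiagram_map_fst (StalkLim.diag S a) (tauι a) f _

theorem trans_snd {W' W : AffNhd S a} (h : W'.U ≤ W.U) :
    trans a f h ≫ pullback.snd f W.U.ι = pullback.snd f W'.U.ι ≫ S.homOfLE h :=
  FpLimit.fbDiagram_map_snd (StalkLim.diag S a) (tauι a) f _

theorem stalkTo_trans {W' W : AffNhd S a} (h : W'.U ≤ W.U) :
    stalkTo a f W' ≫ trans a f h = stalkTo a f W :=
  (fbC a f).w (homOfLE (AffNhd.le_iff.mpr h))

theorem isPullback_trans {W' W : AffNhd S a} (h : W'.U ≤ W.U) :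
    IsPullback (trans a f h) (pullback.snd f W'.U.ι) (pullback.snd f W.U.ι) (S.homOfLE h) :=
  FpLimit.isPullback_fbDiagram_map (StalkLim.diag S a) (tauι a) f _

theorem compactSpace_stage [QuasiCompact f] (W : AffNhd S a) : CompactSpace ↥(pullback f W.U.ι) :=
  haveI : IsAffine (W.U : Scheme.{u}) := W.isAffineOpen
  QuasiCompact.compactSpace_of_compactSpace (pullback.snd f W.U.ι)

theorem quasiSeparatedSpace_stage [QuasiSeparated f] (W : AffNhd S a) :
    QuasiSeparatedSpace ↥(pullback f W.U.ι) :=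
  haveI : IsAffine (W.U : Scheme.{u}) := W.isAffineOpen
  quasiSeparatedSpace_of_quasiSeparated (pullback.snd f W.U.ι)

/-- spreading out a morphism from the stalk to a neighbourhood -/
theorem exists_spread_hom [QuasiCompact f] [QuasiSeparated f] {Z : Scheme.{u}} (z : Z ⟶ S)
    [LocallyOfFinitePresentation z] (r : pullback f (S.fromSpecStalk a) ⟶ Z)
    (hr : r ≫ z = pullback.fst f (S.fromSpecStalk a) ≫ f) :
    ∃ (W : AffNhd S a) (r' : pullback f W.U.ι ⟶ Z), stalkTo a f W ≫ r' = r ∧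
      r' ≫ z = pullback.fst f W.U.ι ≫ f := by
  haveI : ∀ W, CompactSpace ↥((fbD a f).obj W) := fun W => compactSpace_stage a f W
  haveI : ∀ W, QuasiSeparatedSpace ↥((fbD a f).obj W) := fun W => quasiSeparatedSpace_stage a f W
  obtain ⟨t, ht⟩ : ∃ t : fbD a f ⟶ (Functor.const (AffNhd S a)).obj S,
      ∀ W, t.app W = pullback.fst f W.U.ι ≫ f := by
    refine ⟨{ app := fun W => pullback.fst f W.U.ι ≫ f, naturality := fun W W' φ => ?_ }, fun W => rfl⟩
    show (fbD a f).map φ ≫ pullback.fst f W'.U.ι ≫ f = (pullback.fst f W.U.ι ≫ f) ≫ 𝟙 _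
    rw [Category.comp_id, ← Category.assoc]
    exact congrArg (· ≫ f) (FpLimit.fbDiagram_map_fst (StalkLim.diag S a) (tauι a) f φ)
  have ha : (fbC a f).π ≫ t = (Functor.const _).map (r ≫ z) := by
    ext W : 2
    show (fbC a f).π.app W ≫ t.app W = r ≫ z
    rw [ht, hr, ← Category.assoc]
    exact congrArg (· ≫ f) (stalkTo_fst a f W)
  obtain ⟨W, r', h1, h2⟩ := Scheme.exists_π_app_comp_eq_of_locallyOfFinitePresentation
    (fbD a f) t z (fbC a f) (fbCLim a f) r ha
  exact ⟨W, r', h1, h2.trans (ht W)⟩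

/-- uniqueness of spreading out -/
theorem exists_spread_eq [QuasiCompact f] {Z : Scheme.{u}} (z : Z ⟶ S)
    [LocallyOfFiniteType z] (W : AffNhd S a) (r₁ r₂ : pullback f W.U.ι ⟶ Z)
    (h₁ : r₁ ≫ z = pullback.fst f W.U.ι ≫ f) (h₂ : r₂ ≫ z = pullback.fst f W.U.ι ≫ f)
    (h : stalkTo a f W ≫ r₁ = stalkTo a f W ≫ r₂) :
    ∃ (W' : AffNhd S a) (hW : W'.U ≤ W.U), trans a f hW ≫ r₁ = trans a f hW ≫ r₂ := by
  haveI : ∀ W, CompactSpace ↥((fbD a f).obj W) := fun W => compactSpace_stage a f W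
  obtain ⟨t, ht⟩ : ∃ t : fbD a f ⟶ (Functor.const (AffNhd S a)).obj S,
      ∀ W, t.app W = pullback.fst f W.U.ι ≫ f := by
    refine ⟨{ app := fun W => pullback.fst f W.U.ι ≫ f, naturality := fun W W' φ => ?_ }, fun W => rfl⟩
    show (fbD a f).map φ ≫ pullback.fst f W'.U.ι ≫ f = (pullback.fst f W.U.ι ≫ f) ≫ 𝟙 _
    rw [Category.comp_id, ← Category.assoc]
    exact congrArg (· ≫ f) (FpLimit.fbDiagram_map_fst (StalkLim.diag S a) (tauι a) f φ)
  obtain ⟨W', φ, hφ⟩ := Scheme.exists_hom_comp_eq_comp_of_locallyOfFiniteType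
    (fbD a f) t z (fbC a f) (fbCLim a f) r₁ r₂ ((ht W).trans h₁.symm) ((ht W).trans h₂.symm) h
  exact ⟨W', AffNhd.le_iff.mp φ.le, hφ⟩

end Diagrams

end Groth.Agent.Lib.Helper28.EffDescE
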