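import Groth.Agent.Lib.Helper28.EffDescE.Spread2

/-!
# Spreading out étale local quotients from a stalk (helper28), part 3: stages
-/

set_option autoImplicit false
set_option maxHeartbeats 1600000
set_option backward.isDefEq.respectTransparency false
set_option backward.isDefEq.respectTransparency.types false
universe u
open CategoryTheory CategoryTheory.Limits AlgebraicGeometry

namespace Groth.Agent.Lib.Helper28.EffDescE

open Desc Groth.Agent.Lib.Helper12 Groth.Agent.Lib.Helper12.StalkLim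

theorem fromStalk_homOfLE {S : Scheme.{u}} (a : S) {W' W : AffNhd S a} (h : W'.U ≤ W.U) :
    W'.U.fromSpecStalkOfMem a W'.mem ≫ S.homOfLE h = W.U.fromSpecStalkOfMem a W.mem :=
  (StalkLim.cone S a).w (homOfLE (AffNhd.le_iff.mpr h))

variable {S S' : Scheme.{u}} {g : S' ⟶ S} (D : SchDD g) (a : S)
  {Ua : Scheme.{u}} (ua : Ua ⟶ Spec (S.presheaf.stalk a))
  (qa : pullback (D.obj.hom ≫ g) (S.fromSpecStalk a) ⟶ Ua)

/-- a stage: an étale scheme over an affine neighbourhood `W` of `a` inducing `Ua`, with a map from the part of `D`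
over `W` inducing `qa` -/
structure Stg where
  W : AffNhd S a
  U : Scheme.{u}
  u : U ⟶ (W.U : Scheme.{u})
  gU : Ua ⟶ U
  hU : IsPullback gU ua u (W.U.fromSpecStalkOfMem a W.mem)
  q : pullback (D.obj.hom ≫ g) W.U.ι ⟶ U
  hqu : q ≫ u = pullback.snd (D.obj.hom ≫ g) W.U.ι
  hq : stalkTo a (D.obj.hom ≫ g) W ≫ q = qa ≫ gU
  et : Etale u
  qc : QuasiCompact u
  qs : QuasiSeparated u

variable {D a ua qa}
variable (hqa : qa ≫ ua = pullback.snd (D.obj.hom ≫ g) (S.fromSpecStalk a))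

include hqa in
theorem ofSpread_hc (W₁ : AffNhd S a) {U₁ : Scheme.{u}} (u₁ : U₁ ⟶ (W₁.U : Scheme.{u})) (W₂ : AffNhd S a)
    (r' : pullback (D.obj.hom ≫ g) W₂.U.ι ⟶ U₁)
    (h2 : r' ≫ u₁ ≫ W₁.U.ι = pullback.fst (D.obj.hom ≫ g) W₂.U.ι ≫ D.obj.hom ≫ g)
    (W₃ : AffNhd S a) (h₃₁ : W₃.U ≤ W₁.U) (h₃₂ : W₃.U ≤ W₂.U) :
    (trans a (D.obj.hom ≫ g) h₃₂ ≫ r') ≫ u₁ =
      pullback.snd (D.obj.hom ≫ g) W₃.U.ι ≫ S.homOfLE h₃₁ := by
  rw [← cancel_mono W₁.U.ι, Category.assoc, Category.assoc, h2, ← Category.assoc, trans_fst,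
    Category.assoc, Scheme.homOfLE_ι, pullback.condition]

theorem ofSpread_hg (W₁ : AffNhd S a) {U₁ : Scheme.{u}} (u₁ : U₁ ⟶ (W₁.U : Scheme.{u})) (g₁ : Ua ⟶ U₁)
    (hU₁ : IsPullback g₁ ua u₁ (W₁.U.fromSpecStalkOfMem a W₁.mem))
    (W₃ : AffNhd S a) (h₃₁ : W₃.U ≤ W₁.U) :
    g₁ ≫ u₁ = (ua ≫ W₃.U.fromSpecStalkOfMem a W₃.mem) ≫ S.homOfLE h₃₁ := by
  rw [Category.assoc, fromStalk_homOfLE a h₃₁, hU₁.w]

/-- a stage from a spread-out morphism -/
noncomputable def Stg.ofSpread (W₁ : AffNhd S a) {U₁ : Scheme.{u}} (u₁ : U₁ ⟶ (W₁.U : Scheme.{u}))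
    (het : Etale u₁) (hqc : QuasiCompact u₁) (hqs : QuasiSeparated u₁) (g₁ : Ua ⟶ U₁)
    (hU₁ : IsPullback g₁ ua u₁ (W₁.U.fromSpecStalkOfMem a W₁.mem)) (W₂ : AffNhd S a)
    (r' : pullback (D.obj.hom ≫ g) W₂.U.ι ⟶ U₁)
    (h1 : stalkTo a (D.obj.hom ≫ g) W₂ ≫ r' = qa ≫ g₁)
    (h2 : r' ≫ u₁ ≫ W₁.U.ι = pullback.fst (D.obj.hom ≫ g) W₂.U.ι ≫ D.obj.hom ≫ g)
    (W₃ : AffNhd S a) (h₃₁ : W₃.U ≤ W₁.U) (h₃₂ : W₃.U ≤ W₂.U) : Stg D a ua qa where
  W := W₃
  U := pullback u₁ (S.homOfLE h₃₁)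
  u := pullback.snd u₁ (S.homOfLE h₃₁)
  gU := pullback.lift g₁ (ua ≫ W₃.U.fromSpecStalkOfMem a W₃.mem) (ofSpread_hg W₁ u₁ g₁ hU₁ W₃ h₃₁)
  hU := by
    refine IsPullback.of_right ?_ (pullback.lift_snd _ _ _) (IsPullback.of_hasPullback u₁ (S.homOfLE h₃₁))
    rw [pullback.lift_fst, fromStalk_homOfLE a h₃₁]
    exact hU₁
  q := pullback.lift (trans a (D.obj.hom ≫ g) h₃₂ ≫ r') (pullback.snd (D.obj.hom ≫ g) W₃.U.ι)
    (ofSpread_hc hqa W₁ u₁ W₂ r' h2 W₃ h₃₁ h₃₂)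
  hqu := pullback.lift_snd _ _ _
  hq := by
    apply pullback.hom_ext
    · rw [Category.assoc, pullback.lift_fst, Category.assoc, pullback.lift_fst, ← Category.assoc,
        stalkTo_trans, h1]
    · rw [Category.assoc, pullback.lift_snd, Category.assoc, pullback.lift_snd, stalkTo_snd,
        ← Category.assoc, hqa]
  et := inferInstance
  qc := inferInstance
  qs := inferInstance

theorem Stg.hq2 (A : Stg D a ua qa) :
    A.q ≫ A.u ≫ A.W.U.ι = pullback.fst (D.obj.hom ≫ g) A.W.U.ι ≫ D.obj.hom ≫ g := by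
  rw [← Category.assoc, A.hqu, pullback.condition]

/-- restriction of a stage to a smaller neighbourhood -/
noncomputable def Stg.restrict (A : Stg D a ua qa) (W' : AffNhd S a) (h : W'.U ≤ A.W.U) : Stg D a ua qa :=
  Stg.ofSpread hqa A.W A.u A.et A.qc A.qs A.gU A.hU A.W A.q A.hq A.hq2 W' h h

theorem Stg.restrict_W (A : Stg D a ua qa) (W' : AffNhd S a) (h : W'.U ≤ A.W.U) :
    (A.restrict hqa W' h).W = W' := rfl

theorem Stg.restrict_u (A : Stg D a ua qa) (W' : AffNhd S a) (h : W'.U ≤ A.W.U) :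
    (A.restrict hqa W' h).u = pullback.snd A.u (S.homOfLE h) := rfl

theorem Stg.restrict_q_fst (A : Stg D a ua qa) (W' : AffNhd S a) (h : W'.U ≤ A.W.U) :
    (A.restrict hqa W' h).q ≫ pullback.fst A.u (S.homOfLE h) = trans a (D.obj.hom ≫ g) h ≫ A.q :=
  pullback.lift_fst _ _ _

theorem Stg.restrict_q_snd (A : Stg D a ua qa) (W' : AffNhd S a) (h : W'.U ≤ A.W.U) :
    (A.restrict hqa W' h).q ≫ pullback.snd A.u (S.homOfLE h) = pullback.snd (D.obj.hom ≫ g) W'.U.ι :=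
  pullback.lift_snd _ _ _

/-- cartesian stages restrict to cartesian stages -/
theorem Stg.restrict_pb (A : Stg D a ua qa) (W' : AffNhd S a) (h : W'.U ≤ A.W.U)
    (hpb : IsPullback (pullback.fst (D.obj.hom ≫ g) A.W.U.ι ≫ D.obj.hom) A.q g (A.u ≫ A.W.U.ι)) :
    IsPullback (pullback.fst (D.obj.hom ≫ g) W'.U.ι ≫ D.obj.hom) (A.restrict hqa W' h).q g
      (pullback.snd A.u (S.homOfLE h) ≫ W'.U.ι) := by
  have top : IsPullback (trans a (D.obj.hom ≫ g) h) (A.restrict hqa W' h).q A.q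
      (pullback.fst A.u (S.homOfLE h)) := by
    refine IsPullback.of_bot ?_ (A.restrict_q_fst hqa W' h).symm
      (IsPullback.of_hasPullback A.u (S.homOfLE h))
    rw [A.restrict_q_snd hqa W' h, A.hqu]
    exact isPullback_trans a (D.obj.hom ≫ g) h
  have := top.paste_horiz hpb
  rw [← Category.assoc, trans_fst] at this
  have e : pullback.fst A.u (S.homOfLE h) ≫ A.u ≫ A.W.U.ι =
      pullback.snd A.u (S.homOfLE h) ≫ W'.U.ι := by
    rw [← Category.assoc, pullback.condition, Category.assoc, Scheme.homOfLE_ι]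
  rw [e] at this
  exact this

/-- invariant stages restrict to invariant stages -/
theorem Stg.restrict_inv (A : Stg D a ua qa) (W' : AffNhd S a) (h : W'.U ≤ A.W.U)
    (hinv : EffDesc.IsLocInv D A.W.U.ι A.q) : EffDesc.IsLocInv D W'.U.ι (A.restrict hqa W' h).q := by
  intro T x₀ x₁ hx v v₁ w₁ hv hw hs
  apply pullback.hom_ext
  · rw [Category.assoc, Category.assoc, A.restrict_q_fst hqa W' h, ← Category.assoc, ← Category.assoc]
    refine hinv x₀ x₁ hx v (v₁ ≫ trans a (D.obj.hom ≫ g) h) (w₁ ≫ trans a (D.obj.hom ≫ g) h) ?_ ?_ ?_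
    · rw [Category.assoc, trans_fst]; exact hv
    · rw [Category.assoc, trans_fst]; exact hw
    · rw [Category.assoc, Category.assoc, trans_snd, ← Category.assoc, hs, Category.assoc]
  · rw [Category.assoc, Category.assoc, A.restrict_q_snd hqa W' h]
    exact hs.symm

include hqa in
/-- Step C: a first stage exists -/
theorem exists_stg [QuasiCompact (D.obj.hom ≫ g)] [QuasiSeparated (D.obj.hom ≫ g)]
    [Etale ua] [QuasiCompact ua] [QuasiSeparated ua] : Nonempty (Stg D a ua qa) := by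
  obtain ⟨W₁, U₁, u₁, g₁, het, hqc, hqs, hU₁⟩ := exists_etale_stage a ua
  haveI := het
  haveI : LocallyOfFinitePresentation (u₁ ≫ W₁.U.ι) := inferInstance
  have hr : (qa ≫ g₁) ≫ u₁ ≫ W₁.U.ι =
      pullback.fst (D.obj.hom ≫ g) (S.fromSpecStalk a) ≫ D.obj.hom ≫ g := by
    rw [Category.assoc, ← Category.assoc g₁, hU₁.w, Category.assoc, Scheme.Opens.fromSpecStalkOfMem_ι,
      ← Category.assoc, hqa, pullback.condition]
  obtain ⟨W₂, r', h1, h2⟩ := exists_spread_hom a (D.obj.hom ≫ g) (u₁ ≫ W₁.U.ι) (qa ≫ g₁) hr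
  obtain ⟨W₃, hW₃⟩ := AffNhd.exists_le (x := a) (W₁.U ⊓ W₂.U) ⟨W₁.mem, W₂.mem⟩
  exact ⟨Stg.ofSpread hqa W₁ u₁ het hqc hqs g₁ hU₁ W₂ r' h1 h2 W₃ (hW₃.trans inf_le_left)
    (hW₃.trans inf_le_right)⟩

end Groth.Agent.Lib.Helper28.EffDescE
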