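import Groth.Agent.Lib.Helper28.EffDescE.Spread3

/-!
# Spreading out étale local quotients from a stalk (helper28), part 4: invariance at a stage
-/

set_option autoImplicit false
set_option maxHeartbeats 1600000
set_option backward.isDefEq.respectTransparency false
set_option backward.isDefEq.respectTransparency.types false
universe u
open CategoryTheory CategoryTheory.Limits AlgebraicGeometry

namespace Groth.Agent.Lib.Helper28.EffDescE

open Desc Groth.Agent.Lib.Helper12 Groth.Agent.Lib.Helper12.StalkLim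

section MapJ

variable {S Y Y' : Scheme.{u}} (f : Y ⟶ S) (f' : Y' ⟶ S) (m : Y ⟶ Y') (hm : m ≫ f' = f)

/-- the map `Y ×_S S₁ ⟶ Y' ×_S S₁` induced by an `S`-morphism `Y ⟶ Y'` -/
noncomputable def mapJ {S₁ : Scheme.{u}} (j : S₁ ⟶ S) : pullback f j ⟶ pullback f' j :=
  pullback.lift (pullback.fst f j ≫ m) (pullback.snd f j) (by rw [Category.assoc, hm, pullback.condition])

theorem mapJ_fst {S₁ : Scheme.{u}} (j : S₁ ⟶ S) :
    mapJ f f' m hm j ≫ pullback.fst f' j = pullback.fst f j ≫ m := pullback.lift_fst _ _ _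

theorem mapJ_snd {S₁ : Scheme.{u}} (j : S₁ ⟶ S) :
    mapJ f f' m hm j ≫ pullback.snd f' j = pullback.snd f j := pullback.lift_snd _ _ _

theorem stalkTo_mapJ (a : S) (W : AffNhd S a) :
    stalkTo a f W ≫ mapJ f f' m hm W.U.ι = mapJ f f' m hm (S.fromSpecStalk a) ≫ stalkTo a f' W := by
  apply pullback.hom_ext
  · rw [Category.assoc, mapJ_fst, ← Category.assoc, stalkTo_fst, Category.assoc, stalkTo_fst, mapJ_fst]
  · rw [Category.assoc, mapJ_snd, stalkTo_snd, Category.assoc, stalkTo_snd, ← Category.assoc, mapJ_snd]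

theorem trans_mapJ (a : S) {W' W : AffNhd S a} (h : W'.U ≤ W.U) :
    trans a f h ≫ mapJ f f' m hm W.U.ι = mapJ f f' m hm W'.U.ι ≫ trans a f' h := by
  apply pullback.hom_ext
  · rw [Category.assoc, mapJ_fst, ← Category.assoc, trans_fst, Category.assoc, trans_fst, mapJ_fst]
  · rw [Category.assoc, mapJ_snd, trans_snd, Category.assoc, trans_snd, ← Category.assoc, mapJ_snd]

end MapJ

section Univ

variable {S S' : Scheme.{u}} {g : S' ⟶ S} (D : SchDD g)

/-- the universal relation scheme `E ×_{S'} (S' ×_S S')` -/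
noncomputable abbrev relR : Scheme.{u} := pullback D.obj.hom (pullback.fst g g)

noncomputable def relX₀ : relR D ⟶ S' := pullback.snd D.obj.hom (pullback.fst g g) ≫ pullback.fst g g
noncomputable def relX₁ : relR D ⟶ S' := pullback.snd D.obj.hom (pullback.fst g g) ≫ pullback.snd g g

theorem relH : relX₀ D ≫ g = relX₁ D ≫ g := by
  rw [relX₀, relX₁, Category.assoc, Category.assoc, pullback.condition]

/-- the universal point -/
noncomputable def relV : Lifts D.obj (relX₀ D) :=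
  ⟨pullback.fst D.obj.hom (pullback.fst g g), pullback.condition⟩

noncomputable def relα : relR D ⟶ D.obj.left := pullback.fst D.obj.hom (pullback.fst g g)
noncomputable def relβ : relR D ⟶ D.obj.left := (D.φ (relX₀ D) (relX₁ D) (relH D) (relV D)).1

theorem relα_hom : relα D ≫ D.obj.hom = relX₀ D := pullback.condition
theorem relβ_hom : relβ D ≫ D.obj.hom = relX₁ D := EffDesc.phi_hom D _ _ _ _

/-- the structure map of the relation scheme -/
noncomputable def relρ : relR D ⟶ S := relα D ≫ D.obj.hom ≫ g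

theorem relα_ρ : relα D ≫ D.obj.hom ≫ g = relρ D := rfl
theorem relβ_ρ : relβ D ≫ D.obj.hom ≫ g = relρ D := by
  rw [← Category.assoc, relβ_hom, ← relH, ← relα_hom, Category.assoc]; rfl

/-- a morphism equalising the two universal maps is locally invariant -/
theorem isLocInv_of_univ {S₁ Z : Scheme.{u}} (j : S₁ ⟶ S) (f : pullback (D.obj.hom ≫ g) j ⟶ Z)
    (hf : mapJ (relρ D) (D.obj.hom ≫ g) (relα D) (relα_ρ D) j ≫ f =
      mapJ (relρ D) (D.obj.hom ≫ g) (relβ D) (relβ_ρ D) j ≫ f) : EffDesc.IsLocInv D j f := by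
  intro T x₀ x₁ h v v₁ w₁ hv hw hs
  have hv2 : v.1 ≫ D.obj.hom = x₀ := v.2
  obtain ⟨t₀, ht1, ht2⟩ : ∃ t₀ : T ⟶ relR D, t₀ ≫ pullback.fst D.obj.hom (pullback.fst g g) = v.1 ∧
      t₀ ≫ pullback.snd D.obj.hom (pullback.fst g g) = pullback.lift x₀ x₁ h :=
    ⟨pullback.lift v.1 (pullback.lift x₀ x₁ h) (by rw [hv2, pullback.lift_fst]),
      pullback.lift_fst _ _ _, pullback.lift_snd _ _ _⟩
  have e₀ : t₀ ≫ relX₀ D = x₀ := by rw [relX₀, ← Category.assoc, ht2, pullback.lift_fst]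
  have e₁ : t₀ ≫ relX₁ D = x₁ := by rw [relX₁, ← Category.assoc, ht2, pullback.lift_snd]
  have hα : t₀ ≫ relα D = v.1 := ht1
  have hβ : (D.φ x₀ x₁ h v).1 = t₀ ≫ relβ D :=
    EffDesc.phi_natural' D t₀ (relX₀ D) (relX₁ D) (relH D) x₀ x₁ e₀ e₁ h (relV D) v ht1.symm
  have hc : t₀ ≫ relρ D = (v₁ ≫ pullback.snd (D.obj.hom ≫ g) j) ≫ j := by
    rw [relρ, ← Category.assoc, hα, ← hv, Category.assoc, Category.assoc, pullback.condition]
  obtain ⟨t, htf, hts⟩ : ∃ t : T ⟶ pullback (relρ D) j, t ≫ pullback.fst (relρ D) j = t₀ ∧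
      t ≫ pullback.snd (relρ D) j = v₁ ≫ pullback.snd (D.obj.hom ≫ g) j :=
    ⟨pullback.lift t₀ _ hc, pullback.lift_fst _ _ _, pullback.lift_snd _ _ _⟩
  have h1 : t ≫ mapJ (relρ D) (D.obj.hom ≫ g) (relα D) (relα_ρ D) j = v₁ := by
    apply pullback.hom_ext
    · rw [Category.assoc, mapJ_fst, ← Category.assoc, htf, hα, hv]
    · rw [Category.assoc, mapJ_snd, hts]
  have h2 : t ≫ mapJ (relρ D) (D.obj.hom ≫ g) (relβ D) (relβ_ρ D) j = w₁ := by
    apply pullback.hom_ext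
    · rw [Category.assoc, mapJ_fst, ← Category.assoc, htf, ← hβ, hw]
    · rw [Category.assoc, mapJ_snd, hts, hs]
  rw [← h1, ← h2, Category.assoc, Category.assoc, hf]

/-- a locally invariant morphism equalises the two universal maps -/
theorem univ_of_isLocInv {S₁ Z : Scheme.{u}} (j : S₁ ⟶ S) (f : pullback (D.obj.hom ≫ g) j ⟶ Z)
    (hf : EffDesc.IsLocInv D j f) :
    mapJ (relρ D) (D.obj.hom ≫ g) (relα D) (relα_ρ D) j ≫ f =
      mapJ (relρ D) (D.obj.hom ≫ g) (relβ D) (relβ_ρ D) j ≫ f := by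
  have hx : (pullback.fst (relρ D) j ≫ relX₀ D) ≫ g = (pullback.fst (relρ D) j ≫ relX₁ D) ≫ g := by
    rw [Category.assoc, Category.assoc, relH]
  obtain ⟨v, hv⟩ : ∃ v : Lifts D.obj (pullback.fst (relρ D) j ≫ relX₀ D),
      v.1 = pullback.fst (relρ D) j ≫ relα D :=
    ⟨⟨pullback.fst (relρ D) j ≫ relα D, by rw [Category.assoc, relα_hom]⟩, rfl⟩
  have hφ : (D.φ _ _ hx v).1 = pullback.fst (relρ D) j ≫ relβ D :=
    EffDesc.phi_natural' D (pullback.fst (relρ D) j) (relX₀ D) (relX₁ D) (relH D) _ _ rfl rfl hx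
      (relV D) v hv
  exact (hf _ _ hx v (mapJ (relρ D) (D.obj.hom ≫ g) (relα D) (relα_ρ D) j)
    (mapJ (relρ D) (D.obj.hom ≫ g) (relβ D) (relβ_ρ D) j)
    ((mapJ_fst _ _ _ _ j).trans hv.symm) ((mapJ_fst _ _ _ _ j).trans hφ.symm)
    ((mapJ_snd _ _ _ _ j).trans (mapJ_snd _ _ _ _ j).symm)).symm

end Univ

section StepE

variable {S S' : Scheme.{u}} {g : S' ⟶ S} {D : SchDD g} {a : S}
  {Ua : Scheme.{u}} {ua : Ua ⟶ Spec (S.presheaf.stalk a)}
  {qa : pullback (D.obj.hom ≫ g) (S.fromSpecStalk a) ⟶ Ua}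
  (hqa : qa ≫ ua = pullback.snd (D.obj.hom ≫ g) (S.fromSpecStalk a))

/-- Step E: invariance at a stage -/
theorem Stg.exists_inv [QuasiCompact g] [QuasiCompact D.obj.hom]
    (hinv : EffDesc.IsLocInv D (S.fromSpecStalk a) qa) (A : Stg D a ua qa) :
    ∃ (W' : AffNhd S a) (h : W'.U ≤ A.W.U), EffDesc.IsLocInv D W'.U.ι (A.restrict hqa W' h).q := by
  haveI := A.et
  haveI : QuasiCompact (relρ D) := by
    have : QuasiCompact (relα D) := by unfold relα; infer_instance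
    unfold relρ; infer_instance
  haveI : LocallyOfFiniteType (A.u ≫ A.W.U.ι) := inferInstance
  have h₁ : (mapJ (relρ D) (D.obj.hom ≫ g) (relα D) (relα_ρ D) A.W.U.ι ≫ A.q) ≫ A.u ≫ A.W.U.ι =
      pullback.fst (relρ D) A.W.U.ι ≫ relρ D := by
    rw [Category.assoc, A.hq2, ← Category.assoc, mapJ_fst, Category.assoc, relα_ρ]
  have h₂ : (mapJ (relρ D) (D.obj.hom ≫ g) (relβ D) (relβ_ρ D) A.W.U.ι ≫ A.q) ≫ A.u ≫ A.W.U.ι =
      pullback.fst (relρ D) A.W.U.ι ≫ relρ D := by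
    rw [Category.assoc, A.hq2, ← Category.assoc, mapJ_fst, Category.assoc, relβ_ρ]
  have key : ∀ (m : relR D ⟶ D.obj.left) (hm : m ≫ D.obj.hom ≫ g = relρ D),
      stalkTo a (relρ D) A.W ≫ mapJ (relρ D) (D.obj.hom ≫ g) m hm A.W.U.ι ≫ A.q =
        (mapJ (relρ D) (D.obj.hom ≫ g) m hm (S.fromSpecStalk a) ≫ qa) ≫ A.gU := by
    intro m hm
    rw [← Category.assoc, stalkTo_mapJ, Category.assoc, A.hq, Category.assoc]
  have h : stalkTo a (relρ D) A.W ≫ mapJ (relρ D) (D.obj.hom ≫ g) (relα D) (relα_ρ D) A.W.U.ι ≫ A.q =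
      stalkTo a (relρ D) A.W ≫ mapJ (relρ D) (D.obj.hom ≫ g) (relβ D) (relβ_ρ D) A.W.U.ι ≫ A.q := by
    rw [key, key, univ_of_isLocInv D _ qa hinv]
  obtain ⟨W', hW, heq⟩ := exists_spread_eq a (relρ D) (A.u ≫ A.W.U.ι) A.W _ _ h₁ h₂ h
  refine ⟨W', hW, isLocInv_of_univ D W'.U.ι _ ?_⟩
  apply pullback.hom_ext
  · rw [Category.assoc, Category.assoc, A.restrict_q_fst hqa W' hW, ← Category.assoc, ← trans_mapJ,
      Category.assoc, heq, ← Category.assoc, trans_mapJ, Category.assoc]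
  · rw [Category.assoc, Category.assoc, A.restrict_q_snd hqa W' hW, mapJ_snd, mapJ_snd]

end StepE

end Groth.Agent.Lib.Helper28.EffDescE
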