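import Groth.Agent.Lib.Helper12.LimIso
import Groth.Agent.Lib.Helper28.EffDescE.Spread4

/-!
# Spreading out étale local quotients from a stalk (helper28), part 5: cartesian squares at a stage
-/

set_option autoImplicit false
set_option maxHeartbeats 1600000
set_option backward.isDefEq.respectTransparency false
set_option backward.isDefEq.respectTransparency.types false
universe u
open CategoryTheory CategoryTheory.Limits AlgebraicGeometry

namespace Groth.Agent.Lib.Helper28.EffDescE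

open Desc Groth.Agent.Lib.Helper12 Groth.Agent.Lib.Helper12.StalkLim

section Gen

variable {C : Type*} [Category C] {P P' X Y Z : C} {fst : P ⟶ X} {snd : P ⟶ Y} {f : X ⟶ Z} {g : Y ⟶ Z}
  {fst' : P' ⟶ X} {snd' : P' ⟶ Y}

theorem isIso_of_isPullback_two (h : IsPullback fst snd f g) (h' : IsPullback fst' snd' f g) (N : P ⟶ P')
    (h1 : N ≫ fst' = fst) (h2 : N ≫ snd' = snd) : IsIso N := by
  refine ⟨h.lift fst' snd' h'.w, ?_, ?_⟩
  · apply h.hom_ext
    · rw [Category.assoc, h.lift_fst, h1, Category.id_comp]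
    · rw [Category.assoc, h.lift_snd, h2, Category.id_comp]
  · apply h'.hom_ext
    · rw [Category.assoc, h1, h.lift_fst, Category.id_comp]
    · rw [Category.assoc, h2, h.lift_snd, Category.id_comp]

theorem isPullback_of_isIso_comp (h' : IsPullback fst' snd' f g) (N : P ⟶ P') [IsIso N]
    (h1 : N ≫ fst' = fst) (h2 : N ≫ snd' = snd) : IsPullback fst snd f g := by
  subst h1 h2
  exact IsPullback.of_iso h' (asIso N).symm (Iso.refl _) (Iso.refl _) (Iso.refl _)
    (by simp) (by simp) (by simp) (by simp)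

end Gen

section MapJPB

variable {S Y Y' : Scheme.{u}} (f : Y ⟶ S) (f' : Y' ⟶ S) (m : Y ⟶ Y') (hm : m ≫ f' = f)

theorem isPullback_mapJ {S₁ : Scheme.{u}} (j : S₁ ⟶ S) :
    IsPullback (mapJ f f' m hm j) (pullback.fst f j) (pullback.fst f' j) m := by
  subst hm
  refine IsPullback.of_right ?_ (mapJ_fst (m ≫ f') f' m rfl j) (IsPullback.of_hasPullback f' j).flip
  rw [mapJ_snd]
  exact (IsPullback.of_hasPullback (m ≫ f') j).flip

theorem isPullback_trans_mapJ (a : S) {W' W : AffNhd S a} (h : W'.U ≤ W.U) :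
    IsPullback (trans a f h) (mapJ f f' m hm W'.U.ι) (mapJ f f' m hm W.U.ι) (trans a f' h) := by
  refine IsPullback.of_bot ?_ (trans_mapJ f f' m hm a h) (isPullback_trans a f' h)
  rw [mapJ_snd, mapJ_snd]
  exact isPullback_trans a f h

end MapJPB

section StageLim

variable {S₁ X Y : Scheme.{u}} (a₁ : S₁) (fX : X ⟶ S₁) (fY : Y ⟶ S₁) (m : X ⟶ Y) (hm : m ≫ fY = fX)
  (c : Cone (StalkLim.diag S₁ a₁)) (hc : IsLimit c) (σ : c.pt ⟶ S₁)
  (hσc : ∀ W, c.π.app W ≫ (tauι a₁).app W = σ)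

/-- the canonical map `X ×_{S₁} pt ⟶ X ×_{S₁} W` for a general cone -/
noncomputable def coneTo (W : AffNhd S₁ a₁) : pullback fX σ ⟶ pullback fX W.U.ι :=
  (FpLimit.fbCone fX c σ hσc).π.app W

theorem coneTo_fst (W : AffNhd S₁ a₁) :
    coneTo a₁ fX c σ hσc W ≫ pullback.fst fX W.U.ι = pullback.fst fX σ :=
  FpLimit.fbCone_π_fst fX c σ hσc W

theorem coneTo_snd (W : AffNhd S₁ a₁) :
    coneTo a₁ fX c σ hσc W ≫ pullback.snd fX W.U.ι = pullback.snd fX σ ≫ c.π.app W :=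
  FpLimit.fbCone_π_snd fX c σ hσc W

theorem coneTo_mapJ (W : AffNhd S₁ a₁) :
    coneTo a₁ fX c σ hσc W ≫ mapJ fX fY m hm W.U.ι = mapJ fX fY m hm σ ≫ coneTo a₁ fY c σ hσc W := by
  apply pullback.hom_ext
  · rw [Category.assoc, mapJ_fst, ← Category.assoc, coneTo_fst, Category.assoc, coneTo_fst, mapJ_fst]
  · rw [Category.assoc, mapJ_snd, coneTo_snd, Category.assoc, coneTo_snd, ← Category.assoc, mapJ_snd]

/-- the natural transformation of stage diagrams -/
noncomputable def stageF : fbD a₁ fX ⟶ fbD a₁ fY where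
  app W := mapJ fX fY m hm W.U.ι
  naturality _ _ φ := trans_mapJ fX fY m hm a₁ (AffNhd.le_iff.mp φ.le)

/-- the limit data of the two stage diagrams -/
noncomputable def stageLimData [QuasiCompact fX] [QuasiSeparated fX] [QuasiCompact fY]
    [QuasiSeparated fY] : LimData (AffNhd S₁ a₁) where
  DX := fbD a₁ fX
  DY := fbD a₁ fY
  F := stageF a₁ fX fY m hm
  cX := FpLimit.fbCone fX c σ hσc
  cY := FpLimit.fbCone fY c σ hσc
  hcX := FpLimit.isLimitFbCone fX c hc σ hσc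
  hcY := FpLimit.isLimitFbCone fY c hc σ hσc
  f := mapJ fX fY m hm σ
  hf W := coneTo_mapJ a₁ fX fY m hm c σ hσc W
  hF φ := isPullback_trans_mapJ fX fY m hm a₁ (AffNhd.le_iff.mp φ.le)
  affY _ := inferInstance
  cptX W := compactSpace_stage a₁ fX W
  qsX W := quasiSeparatedSpace_stage a₁ fX W
  cptY W := compactSpace_stage a₁ fY W
  qsY W := quasiSeparatedSpace_stage a₁ fY W

include hc hσc in
/-- an isomorphism at the limit is an isomorphism at a stage -/
theorem exists_isIso_stage [QuasiCompact fX] [QuasiSeparated fX] [QuasiCompact fY]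
    [QuasiSeparated fY] [LocallyOfFinitePresentation m] (hiso : IsIso (mapJ fX fY m hm σ)) :
    ∃ W : AffNhd S₁ a₁, IsIso (mapJ fX fY m hm W.U.ι) := by
  haveI : ∀ W, LocallyOfFinitePresentation ((stageLimData a₁ fX fY m hm c hc σ hσc).F.app W) := fun W =>
    MorphismProperty.of_isPullback (P := @LocallyOfFinitePresentation)
      (isPullback_mapJ fX fY m hm W.U.ι).flip inferInstance
  obtain ⟨W, hW⟩ := (stageLimData a₁ fX fY m hm c hc σ hσc).exists_isIso hiso
  exact ⟨W, hW⟩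

end StageLim

section Cmp

variable {S S' : Scheme.{u}} {g : S' ⟶ S} (D : SchDD g) {S₁ U : Scheme.{u}} (ι₁ : S₁ ⟶ S) (u : U ⟶ S₁)
  (q : pullback (D.obj.hom ≫ g) ι₁ ⟶ U) (hqu : q ≫ u = pullback.snd (D.obj.hom ≫ g) ι₁)

include hqu in
theorem cmp_hc : (pullback.fst (D.obj.hom ≫ g) ι₁ ≫ D.obj.hom) ≫ g = q ≫ u ≫ ι₁ := by
  rw [Category.assoc, ← Category.assoc q, hqu, pullback.condition]

/-- the comparison map `E ×_S S₁ ⟶ S' ×_S U` -/
noncomputable def cmpM : pullback (D.obj.hom ≫ g) ι₁ ⟶ pullback g (u ≫ ι₁) :=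
  pullback.lift (pullback.fst (D.obj.hom ≫ g) ι₁ ≫ D.obj.hom) q (cmp_hc D ι₁ u q hqu)

theorem cmpM_fst : cmpM D ι₁ u q hqu ≫ pullback.fst g (u ≫ ι₁) =
    pullback.fst (D.obj.hom ≫ g) ι₁ ≫ D.obj.hom := pullback.lift_fst _ _ _

theorem cmpM_snd : cmpM D ι₁ u q hqu ≫ pullback.snd g (u ≫ ι₁) = q := pullback.lift_snd _ _ _

theorem cmpM_hm : cmpM D ι₁ u q hqu ≫ pullback.snd g (u ≫ ι₁) ≫ u =
    pullback.snd (D.obj.hom ≫ g) ι₁ := by
  rw [← Category.assoc, cmpM_snd, hqu]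

theorem etale_cmpM [Etale D.obj.hom] [Etale u] [IsOpenImmersion ι₁] : Etale (cmpM D ι₁ u q hqu) := by
  haveI : Etale (cmpM D ι₁ u q hqu ≫ pullback.fst g (u ≫ ι₁)) := by
    rw [cmpM_fst]; infer_instance
  exact MorphismProperty.of_postcomp (W := @Etale) (W' := @Etale) (cmpM D ι₁ u q hqu)
    (pullback.fst g (u ≫ ι₁)) inferInstance inferInstance

variable {T : Scheme.{u}} (k : T ⟶ S₁) (j' : T ⟶ S) (hj' : k ≫ ι₁ = j')

include hj' in
theorem thetaK_hc : pullback.fst (D.obj.hom ≫ g) j' ≫ D.obj.hom ≫ g =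
    (pullback.snd (D.obj.hom ≫ g) j' ≫ k) ≫ ι₁ := by
  rw [Category.assoc, hj']; exact pullback.condition

/-- the map `E ×_S T ⟶ E ×_S S₁` -/
noncomputable def thetaK : pullback (D.obj.hom ≫ g) j' ⟶ pullback (D.obj.hom ≫ g) ι₁ :=
  pullback.lift (pullback.fst (D.obj.hom ≫ g) j') (pullback.snd (D.obj.hom ≫ g) j' ≫ k)
    (thetaK_hc D ι₁ k j' hj')

theorem thetaK_fst : thetaK D ι₁ k j' hj' ≫ pullback.fst (D.obj.hom ≫ g) ι₁ =
    pullback.fst (D.obj.hom ≫ g) j' := pullback.lift_fst _ _ _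

theorem thetaK_snd : thetaK D ι₁ k j' hj' ≫ pullback.snd (D.obj.hom ≫ g) ι₁ =
    pullback.snd (D.obj.hom ≫ g) j' ≫ k := pullback.lift_snd _ _ _

theorem isPullback_thetaK : IsPullback (thetaK D ι₁ k j' hj') (pullback.snd (D.obj.hom ≫ g) j')
    (pullback.snd (D.obj.hom ≫ g) ι₁) k := by
  subst hj'
  refine IsPullback.of_right ?_ (thetaK_snd D ι₁ k (k ≫ ι₁) rfl) (IsPullback.of_hasPullback _ _)
  rw [thetaK_fst]
  exact IsPullback.of_hasPullback (D.obj.hom ≫ g) (k ≫ ι₁)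

include hqu in
theorem restrK_hc : (thetaK D ι₁ k j' hj' ≫ q) ≫ u = pullback.snd (D.obj.hom ≫ g) j' ≫ k := by
  rw [Category.assoc, hqu, thetaK_snd]

/-- the restriction of `q` along `k` -/
noncomputable def restrK : pullback (D.obj.hom ≫ g) j' ⟶ pullback u k :=
  pullback.lift (thetaK D ι₁ k j' hj' ≫ q) (pullback.snd (D.obj.hom ≫ g) j')
    (restrK_hc D ι₁ u q hqu k j' hj')

theorem restrK_fst : restrK D ι₁ u q hqu k j' hj' ≫ pullback.fst u k = thetaK D ι₁ k j' hj' ≫ q :=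
  pullback.lift_fst _ _ _

theorem restrK_snd : restrK D ι₁ u q hqu k j' hj' ≫ pullback.snd u k =
    pullback.snd (D.obj.hom ≫ g) j' := pullback.lift_snd _ _ _

theorem restrK_inv (hinv : EffDesc.IsLocInv D ι₁ q) :
    EffDesc.IsLocInv D j' (restrK D ι₁ u q hqu k j' hj') := by
  intro T' x₀ x₁ hx v v₁ w₁ hv hw hs
  apply pullback.hom_ext
  · rw [Category.assoc, Category.assoc, restrK_fst, ← Category.assoc, ← Category.assoc]
    refine hinv x₀ x₁ hx v (v₁ ≫ thetaK D ι₁ k j' hj') (w₁ ≫ thetaK D ι₁ k j' hj') ?_ ?_ ?_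
    · rw [Category.assoc, thetaK_fst]; exact hv
    · rw [Category.assoc, thetaK_fst]; exact hw
    · rw [Category.assoc, Category.assoc, thetaK_snd, ← Category.assoc, hs, Category.assoc]
  · rw [Category.assoc, Category.assoc, restrK_snd]
    exact hs.symm

/-- the restriction of `q` along `k` is cartesian iff the comparison map is an isomorphism over `k` -/
theorem restrK_pb_iff :
    IsPullback (pullback.fst (D.obj.hom ≫ g) j' ≫ D.obj.hom) (restrK D ι₁ u q hqu k j' hj') g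
        (pullback.snd u k ≫ j') ↔
      IsIso (mapJ (pullback.snd (D.obj.hom ≫ g) ι₁) (pullback.snd g (u ≫ ι₁) ≫ u)
        (cmpM D ι₁ u q hqu) (cmpM_hm D ι₁ u q hqu) k) := by
  have hM1 := mapJ_fst (pullback.snd (D.obj.hom ≫ g) ι₁) (pullback.snd g (u ≫ ι₁) ≫ u)
    (cmpM D ι₁ u q hqu) (cmpM_hm D ι₁ u q hqu) k
  have hM2 := mapJ_snd (pullback.snd (D.obj.hom ≫ g) ι₁) (pullback.snd g (u ≫ ι₁) ≫ u)
    (cmpM D ι₁ u q hqu) (cmpM_hm D ι₁ u q hqu) k
  generalize mapJ (pullback.snd (D.obj.hom ≫ g) ι₁) (pullback.snd g (u ≫ ι₁) ≫ u)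
    (cmpM D ι₁ u q hqu) (cmpM_hm D ι₁ u q hqu) k = M at hM1 hM2 ⊢
  have hκ := isPullback_thetaK D ι₁ k j' hj'
  have hκ1 : hκ.isoPullback.hom ≫ pullback.fst (pullback.snd (D.obj.hom ≫ g) ι₁) k =
      thetaK D ι₁ k j' hj' := hκ.isoPullback_hom_fst
  have hκ2 : hκ.isoPullback.hom ≫ pullback.snd (pullback.snd (D.obj.hom ≫ g) ι₁) k =
      pullback.snd (D.obj.hom ≫ g) j' := hκ.isoPullback_hom_snd
  have hc' : (pullback.fst (pullback.snd g (u ≫ ι₁) ≫ u) k ≫ pullback.snd g (u ≫ ι₁)) ≫ u =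
      pullback.snd (pullback.snd g (u ≫ ι₁) ≫ u) k ≫ k := by
    rw [Category.assoc]; exact pullback.condition
  obtain ⟨c, hc1, hc2⟩ : ∃ c : pullback (pullback.snd g (u ≫ ι₁) ≫ u) k ⟶ pullback u k,
      c ≫ pullback.fst u k =
        pullback.fst (pullback.snd g (u ≫ ι₁) ≫ u) k ≫ pullback.snd g (u ≫ ι₁) ∧
      c ≫ pullback.snd u k = pullback.snd (pullback.snd g (u ≫ ι₁) ≫ u) k :=
    ⟨pullback.lift _ _ hc', pullback.lift_fst _ _ _, pullback.lift_snd _ _ _⟩
  have sqL : IsPullback c (pullback.fst (pullback.snd g (u ≫ ι₁) ≫ u) k) (pullback.fst u k)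
      (pullback.snd g (u ≫ ι₁)) := by
    refine IsPullback.of_right ?_ hc1 (IsPullback.of_hasPullback u k).flip
    rw [hc2]
    exact (IsPullback.of_hasPullback (pullback.snd g (u ≫ ι₁) ≫ u) k).flip
  have hY : IsPullback (pullback.fst (pullback.snd g (u ≫ ι₁) ≫ u) k ≫ pullback.fst g (u ≫ ι₁)) c g
      (pullback.snd u k ≫ j') := by
    have := (sqL.paste_vert (IsPullback.of_hasPullback g (u ≫ ι₁)).flip).flip
    have e : pullback.fst u k ≫ u ≫ ι₁ = pullback.snd u k ≫ j' := by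
      rw [← Category.assoc, pullback.condition, Category.assoc, hj']
    rw [e] at this
    exact this
  have hN1 : (hκ.isoPullback.hom ≫ M) ≫
      pullback.fst (pullback.snd g (u ≫ ι₁) ≫ u) k ≫ pullback.fst g (u ≫ ι₁) =
        pullback.fst (D.obj.hom ≫ g) j' ≫ D.obj.hom := by
    rw [Category.assoc, ← Category.assoc M, hM1, Category.assoc, cmpM_fst, ← Category.assoc, hκ1,
      ← Category.assoc, thetaK_fst]
  have hN2 : (hκ.isoPullback.hom ≫ M) ≫ c = restrK D ι₁ u q hqu k j' hj' := by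
    apply pullback.hom_ext
    · rw [Category.assoc, hc1, restrK_fst, Category.assoc, ← Category.assoc M, hM1, Category.assoc,
        cmpM_snd, ← Category.assoc, hκ1]
    · rw [Category.assoc, hc2, restrK_snd, Category.assoc, hM2, hκ2]
  constructor
  · intro hpb
    haveI : IsIso (hκ.isoPullback.hom ≫ M) := isIso_of_isPullback_two hpb hY _ hN1 hN2
    exact IsIso.of_isIso_comp_left hκ.isoPullback.hom M
  · intro hM
    haveI := hM
    exact isPullback_of_isIso_comp hY (hκ.isoPullback.hom ≫ M) hN1 hN2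

end Cmp

end Groth.Agent.Lib.Helper28.EffDescE
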