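import Groth.Agent.Lib.Helper28.EffDescE.Spread5
import Groth.Agent.Lib.Helper28.EffDescE.ToIso
import Groth.Agent.Lib.Helper28.EffDescE.MainE

/-!
# Spreading out étale local quotients from a stalk (helper28), part 6: assembly
-/

set_option autoImplicit false
set_option maxHeartbeats 1600000
set_option backward.isDefEq.respectTransparency false
set_option backward.isDefEq.respectTransparency.types false
universe u
open CategoryTheory CategoryTheory.Limits AlgebraicGeometry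

namespace Groth.Agent.Lib.Helper28.EffDescE

open Desc Groth.Agent.Lib.Helper12 Groth.Agent.Lib.Helper12.StalkLim

section StageLim'

variable {S₁ X Y : Scheme.{u}} (a₁ : S₁) (fX : X ⟶ S₁) (fY : Y ⟶ S₁) (m : X ⟶ Y) (hm : m ≫ fY = fX)

theorem extend_hσ {P : Scheme.{u}} (ε : P ⟶ (StalkLim.cone S₁ a₁).pt) (W : AffNhd S₁ a₁) :
    ((StalkLim.cone S₁ a₁).extend ε).π.app W ≫ (tauι a₁).app W = ε ≫ S₁.fromSpecStalk a₁ := by
  show (ε ≫ W.U.fromSpecStalkOfMem a₁ W.mem) ≫ W.U.ι = _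
  rw [Category.assoc, Scheme.Opens.fromSpecStalkOfMem_ι]

noncomputable def extLim {P : Scheme.{u}}
    (ε : P ⟶ (StalkLim.cone S₁ a₁).pt) [IsIso ε] : IsLimit ((StalkLim.cone S₁ a₁).extend ε) :=
  IsLimit.extendIso (s := StalkLim.cone S₁ a₁) ε (isLimitCone S₁ a₁)

/-- an isomorphism at the stalk (up to an isomorphism of the vertex) is an isomorphism at a stage -/
theorem exists_isIso_stage' [QuasiCompact fX] [QuasiSeparated fX] [QuasiCompact fY]
    [QuasiSeparated fY] [LocallyOfFinitePresentation m] {P : Scheme.{u}}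
    (ε : P ⟶ (StalkLim.cone S₁ a₁).pt) [IsIso ε]
    (hiso : IsIso (mapJ fX fY m hm (ε ≫ S₁.fromSpecStalk a₁))) :
    ∃ W : AffNhd S₁ a₁, IsIso (mapJ fX fY m hm W.U.ι) := by
  have h1 := extLim a₁ ε
  have h2 := extend_hσ a₁ ε
  exact exists_isIso_stage a₁ fX fY m hm ((StalkLim.cone S₁ a₁).extend ε)
    h1 (ε ≫ S₁.fromSpecStalk a₁) h2 hiso

end StageLim'

section Assembly

variable {S S' : Scheme.{u}} {g : S' ⟶ S} {D : SchDD g} {a : S}
  {Ua : Scheme.{u}} {ua : Ua ⟶ Spec (S.presheaf.stalk a)}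
  {qa : pullback (D.obj.hom ≫ g) (S.fromSpecStalk a) ⟶ Ua}
  (hqa : qa ≫ ua = pullback.snd (D.obj.hom ≫ g) (S.fromSpecStalk a))

include hqa in
theorem Stg.restrK_stalk (A : Stg D a ua qa) :
    restrK D A.W.U.ι A.u A.q A.hqu (A.W.U.fromSpecStalkOfMem a A.W.mem) (S.fromSpecStalk a)
      (Scheme.Opens.fromSpecStalkOfMem_ι _ _ _) = qa ≫ A.hU.isoPullback.hom := by
  apply pullback.hom_ext
  · rw [restrK_fst, Category.assoc, A.hU.isoPullback_hom_fst, ← A.hq]
    congr 1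
  · rw [restrK_snd, Category.assoc, A.hU.isoPullback_hom_snd, hqa]

include hqa in
/-- Step D: the square is cartesian over a smaller neighbourhood -/
theorem Stg.exists_pb [QuasiCompact g] [QuasiSeparated g] [Etale D.obj.hom] [QuasiCompact D.obj.hom]
    [QuasiSeparated D.obj.hom]
    (hpb_a : IsPullback (pullback.fst (D.obj.hom ≫ g) (S.fromSpecStalk a) ≫ D.obj.hom) qa g
      (ua ≫ S.fromSpecStalk a)) (A : Stg D a ua qa) :
    ∃ W'' : AffNhd (A.W.U : Scheme.{u}) ⟨a, A.W.mem⟩,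
      IsPullback (pullback.fst (D.obj.hom ≫ g) (W''.U.ι ≫ A.W.U.ι) ≫ D.obj.hom)
        (restrK D A.W.U.ι A.u A.q A.hqu W''.U.ι (W''.U.ι ≫ A.W.U.ι) rfl) g
        (pullback.snd A.u W''.U.ι ≫ W''.U.ι ≫ A.W.U.ι) := by
  haveI := A.et
  haveI := A.qc
  haveI := A.qs
  haveI := etale_cmpM D A.W.U.ι A.u A.q A.hqu
  have hiso : IsIso (mapJ (pullback.snd (D.obj.hom ≫ g) A.W.U.ι)
      (pullback.snd g (A.u ≫ A.W.U.ι) ≫ A.u) (cmpM D A.W.U.ι A.u A.q A.hqu)
      (cmpM_hm D A.W.U.ι A.u A.q A.hqu) (A.W.U.fromSpecStalkOfMem a A.W.mem)) := by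
    refine (restrK_pb_iff D A.W.U.ι A.u A.q A.hqu _ (S.fromSpecStalk a)
      (Scheme.Opens.fromSpecStalkOfMem_ι _ _ _)).mp ?_
    rw [A.restrK_stalk hqa]
    exact IsPullback.of_iso hpb_a (Iso.refl _) (Iso.refl _) A.hU.isoPullback (Iso.refl _)
      (by simp) (by simp) (by simp) (by simp)
  obtain ⟨W'', hW''⟩ := exists_isIso_stage' (S₁ := (A.W.U : Scheme.{u})) ⟨a, A.W.mem⟩
    (pullback.snd (D.obj.hom ≫ g) A.W.U.ι)
    (pullback.snd g (A.u ≫ A.W.U.ι) ≫ A.u) (cmpM D A.W.U.ι A.u A.q A.hqu)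
    (cmpM_hm D A.W.U.ι A.u A.q A.hqu) (Spec.map (inv (A.W.U.ι.stalkMap ⟨a, A.W.mem⟩))) hiso
  exact ⟨W'', (restrK_pb_iff D A.W.U.ι A.u A.q A.hqu W''.U.ι _ rfl).mpr hW''⟩

end Assembly

section Final

variable {S S' : Scheme.{u}} {g : S' ⟶ S} {D : SchDD g}

/-- an étale local quotient over the stalk spreads out to an étale local quotient over a neighbourhood -/
theorem exists_nhd_localQuotE (hg : SGA1.UnivSubmersive g) [QuasiCompact g] [QuasiSeparated g]
    [Etale D.obj.hom] [QuasiCompact D.obj.hom] [QuasiSeparated D.obj.hom] (a : S)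
    (h : LocalQuotE D (S.fromSpecStalk a)) : ∃ W : S.Opens, a ∈ W ∧ LocalQuotE D W.ι := by
  obtain ⟨Ua, ua, qa, hpb_a, hinv_a, het⟩ := h
  haveI := het
  have hqa : qa ≫ ua = pullback.snd (D.obj.hom ≫ g) (S.fromSpecStalk a) := by
    rw [← cancel_mono (S.fromSpecStalk a), Category.assoc, ← hpb_a.w, Category.assoc,
      pullback.condition]
  haveI : Surjective qa := surjective_of_bc hg hpb_a.flip
  haveI : QuasiCompact qa := MorphismProperty.of_isPullback (P := @QuasiCompact) hpb_a inferInstance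
  haveI : CompactSpace ↥(pullback (D.obj.hom ≫ g) (S.fromSpecStalk a)) :=
    QuasiCompact.compactSpace_of_compactSpace (pullback.snd (D.obj.hom ≫ g) (S.fromSpecStalk a))
  haveI : QuasiSeparatedSpace ↥(pullback (D.obj.hom ≫ g) (S.fromSpecStalk a)) :=
    quasiSeparatedSpace_of_quasiSeparated (pullback.snd (D.obj.hom ≫ g) (S.fromSpecStalk a))
  haveI : CompactSpace Ua := compactSpace_of_surjective qa
  haveI : QuasiSeparatedSpace Ua := quasiSeparatedSpace_of_surjective qa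
  haveI : QuasiCompact ua := (HasAffineProperty.iff_of_isAffine (P := @QuasiCompact)).mpr inferInstance
  haveI : QuasiSeparated ua :=
    (HasAffineProperty.iff_of_isAffine (P := @QuasiSeparated)).mpr inferInstance
  obtain ⟨A₀⟩ := exists_stg hqa
  obtain ⟨W', h', hinv'⟩ := A₀.exists_inv hqa hinv_a
  obtain ⟨W'', hpb''⟩ := (A₀.restrict hqa W' h').exists_pb hqa hpb_a
  have hinv'' := restrK_inv D (A₀.restrict hqa W' h').W.U.ι (A₀.restrict hqa W' h').u
    (A₀.restrict hqa W' h').q (A₀.restrict hqa W' h').hqu W''.U.ι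
    (W''.U.ι ≫ (A₀.restrict hqa W' h').W.U.ι) rfl hinv'
  haveI := (A₀.restrict hqa W' h').et
  have hloc : LocalQuotE D (W''.U.ι ≫ (A₀.restrict hqa W' h').W.U.ι) :=
    ⟨_, pullback.snd (A₀.restrict hqa W' h').u W''.U.ι, _, hpb'', hinv'', inferInstance⟩
  refine ⟨(A₀.restrict hqa W' h').W.U.ι ''ᵁ W''.U, ⟨⟨a, (A₀.restrict hqa W' h').W.mem⟩, W''.mem, rfl⟩, ?_⟩
  exact hloc.restrict ((A₀.restrict hqa W' h').W.U.ι.isoImage W''.U).inv _
    (Scheme.Hom.isoImage_inv_ι _ _)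

end Final

section Fam

/-- S5124 -/
theorem nhd_iff_stalk {S S' : Scheme.{u}} (g : S' ⟶ S) (hg : SGA1.UnivSubmersive g)
    [QuasiCompact g] [QuasiSeparated g]
    (D : Desc.SchDDFam (fun _ : PUnit.{1} => g)) [Etale (D.obj PUnit.unit).hom]
    [QuasiCompact (D.obj PUnit.unit).hom] [QuasiSeparated (D.obj PUnit.unit).hom] (a : S) :
    (∃ W : S.Opens, a ∈ W ∧ (∃ U : Over (W : Scheme.{u}), Etale U.hom ∧
        Nonempty ((Desc.toDDFam (fun _ : PUnit.{1} => pullback.snd g W.ι)).obj U ≅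
          (Desc.pullDDFam (f := fun _ : PUnit.{1} => g) (f' := fun _ : PUnit.{1} => pullback.snd g W.ι)
        (α := id) (p := W.ι) (p' := fun _ => pullback.fst g W.ι) (fun _ => pullback.condition)).obj D))) ↔
      (∃ U : Over (Spec (S.presheaf.stalk a)), Etale U.hom ∧
        Nonempty ((Desc.toDDFam (fun _ : PUnit.{1} => pullback.snd g (S.fromSpecStalk a))).obj U ≅
          (Desc.pullDDFam (f := fun _ : PUnit.{1} => g) (f' := fun _ : PUnit.{1} => pullback.snd g (S.fromSpecStalk a))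
        (α := id) (p := (S.fromSpecStalk a)) (p' := fun _ => pullback.fst g (S.fromSpecStalk a)) (fun _ => pullback.condition)).obj D)) := by
  haveI : Etale ((SchDDFam.toSchDD g).obj D).obj.hom := ‹Etale (D.obj PUnit.unit).hom›
  haveI : QuasiCompact ((SchDDFam.toSchDD g).obj D).obj.hom := ‹QuasiCompact (D.obj PUnit.unit).hom›
  haveI : QuasiSeparated ((SchDDFam.toSchDD g).obj D).obj.hom := ‹QuasiSeparated (D.obj PUnit.unit).hom›
  constructor
  · rintro ⟨W, haW, hW⟩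
    have h1 := localQuotE_of_fam g D W.ι hW
    have h2 := h1.restrict (W.fromSpecStalkOfMem a haW) (S.fromSpecStalk a)
      (Scheme.Opens.fromSpecStalkOfMem_ι _ _ _)
    exact fam_of_localQuotE g D (S.fromSpecStalk a) h2
  · intro h
    have h1 := localQuotE_of_fam g D (S.fromSpecStalk a) h
    obtain ⟨W, haW, hW⟩ := exists_nhd_localQuotE hg a h1
    exact ⟨W, haW, fam_of_localQuotE g D W.ι hW⟩

end Fam

end Groth.Agent.Lib.Helper28.EffDescE
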